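import Cfsg.Agent.Lib.Invol.SECriterion.Sub.Centralize
import Cfsg.Agent.Lib.Invol.SECriterion.TWeak.Final

/-!
# The weak T theorem in a generated group
-/

set_option autoImplicit false

namespace CfsgLib.SECrit.Setup

open Subgroup

universe u

variable {G : Type u} [Group G] [Finite G] {M : Subgroup G} {z : G}

/-- **The weak T theorem** in a group generated by the conjugates of `z`. -/
theorem tweak_of_top (h : Setup M z) (hgen : normalClosure ({z} : Set G) = ⊤) : TWeak M z := by
  intro x d w p q hx hpq hp hq
  have hbad : IsBad M x := ⟨hx, p, q, hpq, hp, hq⟩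
  exact h.tweak_of_centralize hgen (h.centralize_oddNormal hbad (h.exists_pair_of_top hgen hbad))
    x d w p q hx hpq hp hq

end CfsgLib.SECrit.Setup
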