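import Cfsg.Agent.Lib.Invol.SECriterion.Sub.Chord
import Cfsg.Agent.Lib.Invol.SECriterion.TWeak.Coprime
import Cfsg.Agent.S0205

/-!
# The strong embedding criterion: the members at a point centralize its odd core

If a bad involution has a commuting pair in its centralizer, the conjugates of `z` at a point centralize
every odd normal subgroup of its stabilizer: otherwise a central element of some `O_p(O(G_a))` lies in
the cores at all fixed points of a bad involution `y`, hence fixes the fixed points of all products of `y`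
with the conjugates of `z` centralizing it, and these are all points.
-/

set_option autoImplicit false
set_option linter.style.haveILetI false

namespace CfsgLib.SECrit

open CfsgLib.Invol Subgroup
open CfsgLib.CFun (core coCore le_coCore core_le coCore_le isPGroup_core le_normalizer_core le_normalizer_coCore)
open CfsgLib.Coprime (conjBy mem_conjBy)

universe u

variable {G : Type u} [Group G] [Finite G] {M : Subgroup G} {z : G}

/-- Some conjugate of `z` at `a` does not centralize the `p`-core at `a`. -/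
def NotCentralized (M : Subgroup G) (z : G) (p : ℕ) (a : G ⧸ M) : Prop :=
  ∃ c : G, IsConj z c ∧ c • a = a ∧ ∃ w ∈ pcoreAt p a, ¬ Commute c w

variable {p : ℕ} [hp : Fact p.Prime]

theorem NotCentralized.transport {a : G ⧸ M} (hnc : NotCentralized M z p a) (x : G ⧸ M) :
    NotCentralized M z p x := by
  obtain ⟨c, hc, hca, w, hw, hcw⟩ := hnc
  obtain ⟨g, hg⟩ := MulAction.exists_smul_eq G a x
  refine ⟨g * c * g⁻¹, hc.trans (isConj_iff.2 ⟨g, rfl⟩), ?_, g * w * g⁻¹, hg ▸ conj_mem_pcoreAt hw,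
    fun e => hcw ((Commute.conj_iff g).1 e)⟩
  rw [← hg, smul_smul, inv_mul_cancel_right, mul_smul, hca]

namespace Setup

variable (h : Setup M z)
include h

/-- No conjugate of `z` at `a` centralizes a non-centralized core. -/
theorem not_commute_at {a b : G ⧸ M} (hab : a ≠ b) (hnc : NotCentralized M z p a) {d : G}
    (hd : IsConj z d) (hda : d • a = a) : ∃ w ∈ pcoreAt p a, ¬ Commute d w := by
  by_contra hall
  push Not at hall
  obtain ⟨c, hc, hca, w, hw, hcw⟩ := hnc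
  obtain ⟨m, hma, -, hmc⟩ := h.crit.exists_pair_conj hab hd hda hc hca
  refine hcw ?_
  have hw' : m⁻¹ * w * m ∈ pcoreAt p a := (mem_normalizer_iff''.1 (mem_normalizer_pcoreAt hma) w).1 hw
  have := (Commute.conj_iff m).2 (hall _ hw')
  rwa [hmc, show m * (m⁻¹ * w * m) * m⁻¹ = w by group] at this

/-- An element of a non-centralized core inverted by the bad involution, centralized by one conjugate
of `z` at the point and inverted by another. -/
theorem exists_inverted_pure {y : G} (hy : IsBad M y)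
    (hpair : ∃ d e : G, IsConj z d ∧ IsConj z e ∧ Commute y d ∧ Commute y e ∧ Commute d e ∧ d ≠ e)
    {a : G ⧸ M} (hya : y • a = a) (hnc : NotCentralized M z p a) :
    ∃ c e w : G, IsConj z c ∧ IsConj z e ∧ c • a = a ∧ e • a = a ∧ w ∈ pcoreAt p a ∧ w ≠ 1 ∧
      Commute c w ∧ e * w * e⁻¹ = w⁻¹ ∧ y * w * y⁻¹ = w⁻¹ := by
  obtain ⟨d, e, hd, he, hyd, hye, hde, hne, hda, hea⟩ := h.crit.exists_pair_at hy hpair hya
  have hdo := h.crit.orderOf_conj hd
  have heo := h.crit.orderOf_conj he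
  obtain ⟨b, hab⟩ : ∃ b : G ⧸ M, a ≠ b := by
    obtain ⟨-, p', q', hpq, -, -⟩ := hy
    by_cases hpa : a = p'
    · exact ⟨q', fun hh => hpq (hpa.symm.trans hh)⟩
    · exact ⟨p', hpa⟩
  obtain ⟨x, hx, hdx⟩ := h.not_commute_at hab hnc hd hda
  set A := pcoreAt p a with hA
  have hAn : ∀ g : G, g • a = a → g ∈ normalizer (A : Set G) := fun g hg => mem_normalizer_pcoreAt hg
  have hdA : d * x * d⁻¹ ∈ A := (mem_normalizer_iff.1 (hAn d hda) x).1 hx
  set w₀ := x⁻¹ * (d * x * d⁻¹) with hw₀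
  have hw₀A : w₀ ∈ A := mul_mem (inv_mem hx) hdA
  have hpow : ∀ v ∈ A, ∃ k, orderOf v = p ^ k := fun v hv => by
    obtain ⟨k, hk⟩ := IsPGroup.iff_orderOf.1 (isPGroup_pcoreAt a) ⟨v, hv⟩
    exact ⟨k, by rw [← hk]; exact Subgroup.orderOf_coe ⟨v, hv⟩⟩
  have hw₀1 : w₀ ≠ 1 := fun e1 => hdx (mul_inv_eq_iff_eq_mul.1 (inv_mul_eq_one.1 e1).symm)
  have hdw₀ : d * w₀ * d⁻¹ = w₀⁻¹ := by
    rw [hw₀, invol_inv hdo]
    calc d * (x⁻¹ * (d * x * d)) * d = d * x⁻¹ * d * x * (d * d) := by group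
      _ = d⁻¹ * x⁻¹ * d⁻¹ * x := by rw [invol_mul_self hdo, mul_one, invol_inv hdo]
      _ = (x⁻¹ * (d * x * d))⁻¹ := by group
  obtain ⟨z₁, hz₁, hz₁1, hz₁p, hdz₁, hz₁c⟩ := TWeak.exists_inverted_centralized (p := p) (odd_pcoreAt a)
    hdo heo hde (hAn d hda) (hAn e hea) hw₀A hw₀1 (hpow _ hw₀A) hdw₀
  -- a conjugate `c` at `a`, commuting with `y` and `d`, centralizes `z₁`
  obtain ⟨c, hc, hca, hyc, hdc, hcz⟩ : ∃ c, IsConj z c ∧ c • a = a ∧ Commute y c ∧ Commute d c ∧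
      Commute c z₁ := by
    rcases hz₁c with h1 | h1
    · exact ⟨e, he, hea, hye, hde, h1⟩
    · exact ⟨d * e, h.isConj_mul hd he hde hne, by rw [mul_smul, hea, hda], hyd.mul_right hye,
        (Commute.refl d).mul_right hde, h1⟩
  have hnorm : ∀ g : G, g • a = a → Commute g c →
      g ∈ normalizer ((A ⊓ centralizer ({c} : Set G) : Subgroup G) : Set G) := fun g hga hgc =>
    mem_normalizer_inf' (hAn g hga) (le_normalizer (mem_centralizer_singleton_iff.2 hgc))
  obtain ⟨z₂, ⟨hz₂, hz₂c⟩, hz₂1, -, hdz₂, hz₂y⟩ := TWeak.exists_inverted_centralized (p := p)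
    ((odd_pcoreAt a).of_dvd_nat (card_dvd_of_le (inf_le_left : A ⊓ centralizer ({c} : Set G) ≤ A)))
    hdo hy.1 hyd.symm (hnorm d hda hdc) (hnorm y hya hyc)
    (⟨hz₁, mem_centralizer_singleton_iff.2 hcz.symm.eq⟩ : z₁ ∈ A ⊓ centralizer ({c} : Set G))
    hz₁1 hz₁p hdz₁
  have hcz₂ : Commute c z₂ := Commute.symm (mem_centralizer_singleton_iff.1 hz₂c)
  rcases hz₂y with h1 | h1
  · -- `y d` inverts `z₂`: conjugate back to `y`
    obtain ⟨u, hua, huy⟩ := h.exists_fix_conj_mul hy hya hd he hda hyd hye hde hne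
    have hua' : u⁻¹ • a = a := inv_smul_eq_iff.2 hua.symm
    refine ⟨u⁻¹ * c * u, u⁻¹ * d * u, u⁻¹ * z₂ * u,
      hc.trans (isConj_iff.2 ⟨u⁻¹, by group⟩), hd.trans (isConj_iff.2 ⟨u⁻¹, by group⟩),
      by rw [mul_smul, mul_smul, hua, hca, hua'], by rw [mul_smul, mul_smul, hua, hda, hua'],
      (mem_normalizer_iff''.1 (hAn u hua) z₂).1 hz₂, fun e1 => hz₂1 ?_, ?_, ?_, ?_⟩
    · calc z₂ = u * (u⁻¹ * z₂ * u) * u⁻¹ := by group
        _ = 1 := by rw [e1]; group
    · simpa using (Commute.conj_iff u⁻¹).2 hcz₂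
    · calc u⁻¹ * d * u * (u⁻¹ * z₂ * u) * (u⁻¹ * d * u)⁻¹ = u⁻¹ * (d * z₂ * d⁻¹) * u := by group
        _ = (u⁻¹ * z₂ * u)⁻¹ := by rw [hdz₂]; group
    · calc y * (u⁻¹ * z₂ * u) * y⁻¹ = u⁻¹ * ((u * y * u⁻¹) * z₂ * (u * y * u⁻¹)⁻¹) * u := by group
        _ = u⁻¹ * ((y * d) * z₂ * (y * d)⁻¹) * u := by rw [huy]
        _ = u⁻¹ * (y * (d * z₂ * d⁻¹) * y⁻¹) * u := by group
        _ = u⁻¹ * (y * z₂ * y⁻¹)⁻¹ * u := by rw [hdz₂]; group
        _ = (u⁻¹ * z₂ * u)⁻¹ := by rw [h1.eq, mul_inv_cancel_right]; group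
  · refine ⟨c, d, z₂, hc, hd, hca, hda, hz₂, hz₂1, hcz₂, hdz₂, ?_⟩
    have h2 : d * y * z₂ * (d * y)⁻¹ = z₂ := by rw [h1.eq, mul_inv_cancel_right]
    calc y * z₂ * y⁻¹ = d⁻¹ * (d * y * z₂ * (d * y)⁻¹) * d := by group
      _ = d * z₂ * d⁻¹ := by rw [h2, invol_inv hdo]
      _ = z₂⁻¹ := hdz₂

/-- If one core is not centralized, every core at a fixed point of a bad involution with a pair fixes
all its fixed points. -/
theorem pcoreAt_le_fixAll_all {q : ℕ} [Fact q.Prime] {y : G} (hy : IsBad M y)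
    (hpair : ∃ d e : G, IsConj z d ∧ IsConj z e ∧ Commute y d ∧ Commute y e ∧ Commute d e ∧ d ≠ e)
    {a : G ⧸ M} (hya : y • a = a) (hnc : NotCentralized M z p a) : pcoreAt q a ≤ fixAll M y := by
  by_cases hC : ∃ v ∈ pcoreAt q a, v ≠ 1 ∧ Commute y v
  · obtain ⟨v, hv, hv1, hyv⟩ := hC
    exact h.pcoreAt_le_fixAll_of_commute hy hpair hya hv hv1 hyv
  push Not at hC
  have hinv : ∀ v ∈ pcoreAt q a, y * v * y⁻¹ = v⁻¹ := inverts_of_fixedPointFree hy.1
    (fun x hx => (mem_normalizer_iff.1 (mem_normalizer_pcoreAt hya) x).1 hx)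
    fun x hx hfix => by_contra fun hx1 => hC x hx hx1 (mul_inv_eq_iff_eq_mul.1 hfix)
  intro v hv
  refine mem_fixAll.2 fun x hyx => ?_
  obtain ⟨c, e, w, hc, he, hcx, hex, hw, hw1, hcw, hew, hyw⟩ :=
    h.exists_inverted_pure hy hpair hyx (hnc.transport x)
  have hwa : w • a = a :=
    mem_fixAll.1 (h.pcoreAt_le_fixAll hy hpair hyx (hnc.transport x) hw) a hya
  have hwo : Odd (orderOf w) := (odd_pcoreAt x).of_dvd_nat (orderOf_dvd_natCard _ hw)
  have hwv : w * v * w⁻¹ ∈ pcoreAt q a := (mem_normalizer_iff.1 (mem_normalizer_pcoreAt hwa) v).1 hv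
  have h1 : w⁻¹ * v⁻¹ * w = w * v⁻¹ * w⁻¹ := by
    calc w⁻¹ * v⁻¹ * w = w⁻¹ * v⁻¹ * w⁻¹⁻¹ := by group
      _ = (y * w * y⁻¹) * (y * v * y⁻¹) * (y * w * y⁻¹)⁻¹ := by rw [hinv v hv, hyw]
      _ = y * (w * v * w⁻¹) * y⁻¹ := by group
      _ = (w * v * w⁻¹)⁻¹ := hinv _ hwv
      _ = w * v⁻¹ * w⁻¹ := by group
  have h2 : Commute (w * w) v⁻¹ := by
    show w * w * v⁻¹ = v⁻¹ * (w * w)
    calc w * w * v⁻¹ = w * (w * v⁻¹ * w⁻¹) * w := by group
      _ = w * (w⁻¹ * v⁻¹ * w) * w := by rw [h1]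
      _ = v⁻¹ * (w * w) := by group
  obtain ⟨k, hk⟩ := hwo
  have hw2 : w = (w * w) ^ (k + 1) := by
    rw [← pow_two, ← pow_mul, show 2 * (k + 1) = orderOf w + 1 by omega, pow_succ, pow_orderOf_eq_one,
      one_mul]
  have hvw : Commute v w := by
    have h3 := (h2.pow_left (k + 1)).inv_right
    rw [← hw2, inv_inv] at h3
    exact h3.symm
  exact TWeak.smul_of_commute_inverted h.crit hc he hcx hex
    ((odd_pcoreAt x).of_dvd_nat (orderOf_dvd_natCard _ hw)) hw1 hcw hew hvw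

/-- The centralizer of a non-centralized core in the stabilizer has odd order. -/
theorem odd_centralizer_pcoreAt {y : G} (hy : IsBad M y)
    (hpair : ∃ d e : G, IsConj z d ∧ IsConj z e ∧ Commute y d ∧ Commute y e ∧ Commute d e ∧ d ≠ e)
    {a : G ⧸ M} (hya : y • a = a) (hnc : NotCentralized M z p a) :
    Odd (Nat.card (MulAction.stabilizer G a ⊓ centralizer (pcoreAt p a : Set G) : Subgroup G)) := by
  haveI : Fact (Nat.Prime 2) := ⟨Nat.prime_two⟩
  set C := MulAction.stabilizer G a ⊓ centralizer (pcoreAt p a : Set G) with hC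
  rw [← Nat.not_even_iff_odd]
  intro heven
  obtain ⟨⟨t₀, ht₀C⟩, ht₀⟩ := exists_prime_orderOf_dvd_card' (G := C) 2 (even_iff_two_dvd.1 heven)
  rw [orderOf_mk] at ht₀
  obtain ⟨d, e, hd, he, hyd, hye, hde, hne, hda, hea⟩ := h.crit.exists_pair_at hy hpair hya
  have hK := CfsgLib.Invol.isKleinFour_closure_pair (h.crit.orderOf_conj hd) (h.crit.orderOf_conj he) hne hde
  haveI := hK
  have hKa : closure ({d, e} : Set G) ≤ MulAction.stabilizer G a := (closure_le _).2 (by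
    rintro x (rfl | rfl)
    exacts [hda, hea])
  obtain ⟨S, hS, hKS⟩ := CfsgLib.Bender.exists_sylowIn_ge (r := 2) (K := MulAction.stabilizer G a)
    (IsPGroup.of_card (n := 2) IsKleinFour.card_four) hKa
  obtain ⟨g, hga, hgS⟩ := CfsgLib.Bender.exists_conjBy_le (Crit.isPGroup_zpowers_invol ht₀)
    (zpowers_le.2 ht₀C.1) hS
  set X := S ⊓ C with hX
  have hconjC : ∀ g : G, g • a = a → ∀ x ∈ C, g * x * g⁻¹ ∈ C := fun g hga x hx => by
    refine mem_inf.2 ⟨mul_mem (mul_mem hga hx.1) (inv_mem hga), mem_centralizer_iff.2 fun w hw => ?_⟩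
    have h1 := mem_centralizer_iff.1 hx.2 _ ((mem_normalizer_iff''.1 (mem_normalizer_pcoreAt hga) w).1 hw)
    calc w * (g * x * g⁻¹) = g * ((g⁻¹ * w * g) * x) * g⁻¹ := by group
      _ = g * (x * (g⁻¹ * w * g)) * g⁻¹ := by rw [h1]
      _ = g * x * g⁻¹ * w := by group
  have hne' : X ≠ ⊥ := fun e1 => invol_ne_one ht₀ (conj_eq_one_iff.1
    ((Subgroup.eq_bot_iff_forall _).1 e1 (g * t₀ * g⁻¹)
      (mem_inf.2 ⟨hgS ⟨t₀, mem_zpowers t₀, rfl⟩, hconjC g hga t₀ ht₀C⟩)))
  have hSX : S ≤ normalizer (X : Set G) := fun s hs => CfsgLib.ProdFusion.mem_of_forall_conj_mem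
    fun x hx => mem_inf.2 ⟨mul_mem (mul_mem hs hx.1) (inv_mem hs), hconjC s (hS.1 hs) x hx.2⟩
  obtain ⟨t₁, ht₁, ht₁1, ht₁S⟩ := exists_fixed_of_normalized hS.isPGroup
    (hS.isPGroup.to_le inf_le_left) hne' hSX
  -- an involution among the powers of `t₁`
  obtain ⟨k, hk⟩ := IsPGroup.iff_orderOf.1 hS.isPGroup ⟨t₁, ht₁.1⟩
  rw [orderOf_mk] at hk
  have hk0 : k ≠ 0 := fun e1 => ht₁1 (orderOf_eq_one_iff.1 (by rw [hk, e1, pow_zero]))
  set t := t₁ ^ (orderOf t₁ / 2) with ht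
  have hto : orderOf t = 2 := orderOf_pow_orderOf_div (orderOf_pos t₁).ne' (hk ▸ dvd_pow_self 2 hk0)
  have htC : t ∈ C := pow_mem ht₁.2 _
  have htd : Commute t d := ((ht₁S d (hKS (subset_closure (Set.mem_insert _ _)))).pow_right _).symm
  have hte : Commute t e :=
    ((ht₁S e (hKS (subset_closure (Set.mem_insert_of_mem _ rfl)))).pow_right _).symm
  have hta : t • a = a := htC.1
  have htA : ∀ w ∈ pcoreAt p a, Commute t w := fun w hw => (mem_centralizer_iff.1 htC.2 w hw).symm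
  obtain ⟨b, hab⟩ : ∃ b : G ⧸ M, a ≠ b := by
    obtain ⟨-, p', q', hpq, -, -⟩ := hy
    by_cases hpa : a = p'
    · exact ⟨q', fun hh => hpq (hpa.symm.trans hh)⟩
    · exact ⟨p', hpa⟩
  by_cases hzt : IsConj z t
  · obtain ⟨w, hw, hwt⟩ := h.not_commute_at hab hnc hzt hta
    exact hwt (htA w hw)
  have htbad : IsBad M t := by
    refine ⟨hto, ?_⟩
    by_contra hh
    refine hzt (h.crit.isConj_of_unique_fix h.hfree hto fun r s hr hs => ?_)
    by_contra hrs
    exact hh ⟨r, s, hrs, hr, hs⟩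
  obtain ⟨⟨w, hw, hwt⟩, -⟩ := h.not_centralize_or_invert htbad ⟨d, e, hd, he, htd, hte, hde, hne⟩ hta
    (fun g hg => mem_normalizer_pcoreAt hg) hnc
  exact hwt (htA w hw)

/-- **The `p`-cores of the odd cores are centralized by the members**, given a bad involution with a
commuting pair in its centralizer. -/
theorem pcoreAt_centralized {x₀ : G} (hx₀ : IsBad M x₀)
    (hpair₀ : ∃ d e : G, IsConj z d ∧ IsConj z e ∧ Commute x₀ d ∧ Commute x₀ e ∧ Commute d e ∧ d ≠ e)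
    {a₀ : G ⧸ M} {c₀ : G} (hc₀ : IsConj z c₀) (hc₀a : c₀ • a₀ = a₀) :
    ∀ w ∈ pcoreAt p a₀, Commute c₀ w := by
  classical
  by_contra hcon
  push Not at hcon
  obtain ⟨w₁, hw₁, hw₁c⟩ := hcon
  have hnc₀ : NotCentralized M z p a₀ := ⟨c₀, hc₀, hc₀a, w₁, hw₁, hw₁c⟩
  obtain ⟨hyo, a, b, hab, hya, hyb⟩ := hx₀
  set y := x₀
  have hy : IsBad M y := ⟨hyo, a, b, hab, hya, hyb⟩
  have hnc : NotCentralized M z p a := hnc₀.transport a
  set A := pcoreAt p a with hA
  set P : Subgroup G := ⨆ c : {c : G ⧸ M // y • c = c}, pcoreAt p c.1 with hP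
  have hfix : ∀ c : G ⧸ M, y • c = c → pcoreAt p c ≤ fixAll M y := fun c hc =>
    h.pcoreAt_le_fixAll hy hpair₀ hc (hnc.transport c)
  have hPp : IsPGroup p P := isPGroup_iSup (fun c => isPGroup_pcoreAt c.1) fun i j g hg =>
    mem_normalizer_pcoreAt (mem_fixAll.1 (hfix i.1 i.2 hg) j.1 j.2)
  have hPK : P ≤ fixAll M y := iSup_le fun c => hfix c.1 c.2
  set Z := A ⊓ centralizer (A : Set G) with hZ
  have hAne : A ≠ ⊥ := by
    obtain ⟨c, -, -, w, hw, hcw⟩ := hnc
    exact fun e1 => hcw (by rw [mem_bot.1 (e1 ▸ hw : w ∈ (⊥ : Subgroup G))]; exact Commute.one_right c)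
  have hZne : Z ≠ ⊥ := by
    obtain ⟨v, hv, hv1, hvc⟩ := exists_fixed_of_normalized (isPGroup_pcoreAt (p := p) a) (isPGroup_pcoreAt a)
      hAne le_normalizer
    exact fun e1 => hv1 (mem_bot.1 (e1 ▸
      (⟨hv, mem_centralizer_iff.2 fun g hg => hvc g hg⟩ : v ∈ Z)))
  have hPZ : P ≤ normalizer (Z : Set G) := fun g hg => by
    have hgA : g ∈ normalizer (A : Set G) := mem_normalizer_pcoreAt (mem_fixAll.1 (hPK hg) a hya)
    refine CfsgLib.ProdFusion.mem_of_forall_conj_mem fun x hx =>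
      ⟨(mem_normalizer_iff.1 hgA x).1 hx.1, mem_centralizer_iff.2 fun w hw => ?_⟩
    have h1 := mem_centralizer_iff.1 hx.2 _ ((mem_normalizer_iff''.1 hgA w).1 hw)
    calc w * (g * x * g⁻¹) = g * ((g⁻¹ * w * g) * x) * g⁻¹ := by group
      _ = g * (x * (g⁻¹ * w * g)) * g⁻¹ := by rw [h1]
      _ = g * x * g⁻¹ * w := by group
  obtain ⟨w, hwZ, hw1, hwP⟩ := exists_fixed_of_normalized hPp ((isPGroup_pcoreAt a).to_le inf_le_left)
    hZne hPZ
  have hwA : w ∈ A := hwZ.1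
  -- `w` lies in the core at every fixed point of `y`
  have hmem : ∀ c : G ⧸ M, y • c = c → w ∈ pcoreAt p c := by
    intro c hc
    haveI : Fact (Nat.Prime 2) := ⟨Nat.prime_two⟩
    have hwc : w • c = c := mem_fixAll.1 (hfix a hya hwA) c hc
    set O := coCore (MulAction.stabilizer G c) 2 with hO
    have hOodd : Odd (Nat.card O) := by
      rw [← Nat.not_even_iff_odd, even_iff_two_dvd]
      exact CfsgLib.CFun.not_dvd_coCore
    haveI : Group.IsSolvable O := Cfsg.Agent.S0205.result hOodd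
    set Cc := MulAction.stabilizer G c ⊓ centralizer (pcoreAt p c : Set G) with hCc
    have hwO : w ∈ O := by
      refine le_coCore (X := Cc) inf_le_left (fun g hg => ?_)
        (h.odd_centralizer_pcoreAt hy hpair₀ hc (hnc.transport c)).not_two_dvd_nat
        ⟨hwc, mem_centralizer_iff.2 fun v hv => hwP v (le_iSup (fun c : {c : G ⧸ M // y • c = c} =>
          pcoreAt p c.1) ⟨c, hc⟩ hv)⟩
      refine CfsgLib.ProdFusion.mem_of_forall_conj_mem fun x hx =>
        mem_inf.2 ⟨mul_mem (mul_mem hg hx.1) (inv_mem hg), mem_centralizer_iff.2 fun v hv => ?_⟩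
      have h1 := mem_centralizer_iff.1 hx.2 _
        ((mem_normalizer_iff''.1 (mem_normalizer_pcoreAt (MulAction.mem_stabilizer_iff.1 hg)) v).1 hv)
      calc v * (g * x * g⁻¹) = g * ((g⁻¹ * v * g) * x) * g⁻¹ := by group
        _ = g * (x * (g⁻¹ * v * g)) * g⁻¹ := by rw [h1]
        _ = g * x * g⁻¹ * v := by group
    have hwF : w ∈ centralizer (Cfsg.fittingOf O : Set G) := by
      have hle : Cfsg.fittingOf O ≤ centralizer ({w} : Set G) := by
        refine CfsgLib.CFun.fittingOf_le_of_cores fun q hq v hv => mem_centralizer_singleton_iff.2 ?_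
        haveI : Fact q.Prime := ⟨hq⟩
        rcases eq_or_ne q p with rfl | hqp
        · exact hwP v (le_iSup (fun c : {c : G ⧸ M // y • c = c} => pcoreAt q c.1) ⟨c, hc⟩ hv)
        have hva : v • a = a :=
          mem_fixAll.1 (h.pcoreAt_le_fixAll_all hy hpair₀ hc (hnc.transport c) hv) a hya
        have hcom : v * w * v⁻¹ * w⁻¹ ∈ A ⊓ pcoreAt q c :=
          mem_inf.2 ⟨mul_mem ((mem_normalizer_iff.1 (mem_normalizer_pcoreAt hva) w).1 hwA) (inv_mem hwA), by
            rw [show v * w * v⁻¹ * w⁻¹ = v * (w * v⁻¹ * w⁻¹) by group]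
            exact mul_mem hv ((mem_normalizer_iff.1 (mem_normalizer_pcoreAt hwc) _).1 (inv_mem hv))⟩
        rw [CfsgLib.CFun.inf_eq_bot_of_isPGroup (isPGroup_pcoreAt a)
          (CfsgLib.CFun.not_dvd_of_isPGroup hqp (isPGroup_pcoreAt c)), mem_bot] at hcom
        calc v * w = v * w * v⁻¹ * w⁻¹ * (w * v) := by group
          _ = w * v := by rw [hcom, one_mul]
      exact mem_centralizer_iff.2 fun v hv => mem_centralizer_singleton_iff.1 (hle hv)
    exact CfsgLib.CFun.le_core_of_le_fittingOf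
      (zpowers_le.2 (CfsgLib.CFun.centralizer_fittingOf_le ⟨hwO, hwF⟩))
      ((isPGroup_pcoreAt a).to_le (zpowers_le.2 hwA)) (mem_zpowers w)
  -- `w` fixes every point
  refine hw1 (mem_bot.1 (h.core ▸ mem_core_of_forall_smul fun k => ?_))
  by_cases hk : y • k = k
  · exact mem_fixAll.1 (hfix a hya hwA) k hk
  obtain ⟨g, hg, hgk, hyg⟩ := h.crit.exists_commuting_swap_of_moved hyo hk
  obtain ⟨c, hgc⟩ := h.crit.fix_exists hg
  have hyc : y • c = c := h.crit.smul_of_commute hg hyg hgc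
  have hkc : c ≠ k := fun e1 => hk (by rw [← e1, hyc])
  have hfk : (y * g) • k = k := by
    rw [mul_smul, hgk, smul_smul, invol_mul_self hyo, one_smul]
  obtain ⟨d, e, hd, he, hyd, hye, hde, hne⟩ := id hpair₀
  obtain ⟨v, hv⟩ := isConj_iff.1 (h.crit.isConj_mul_member h.hfree hyo hab hya hyb hd he hyd hye hde hne
    hg hyg)
  have hbad : IsBad M (y * g) :=
    ⟨by rw [← hv]; exact ((MulAut.conj v).orderOf_eq y).trans hyo, c, k, hkc,
      by rw [mul_smul, hgc, hyc], hfk⟩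
  have hpair : ∃ d e : G, IsConj z d ∧ IsConj z e ∧ Commute (y * g) d ∧ Commute (y * g) e ∧
      Commute d e ∧ d ≠ e :=
    ⟨v * d * v⁻¹, v * e * v⁻¹, hd.trans (isConj_iff.2 ⟨v, rfl⟩), he.trans (isConj_iff.2 ⟨v, rfl⟩),
      hv ▸ (Commute.conj_iff v).2 hyd, hv ▸ (Commute.conj_iff v).2 hye, (Commute.conj_iff v).2 hde,
      fun e1 => hne (mul_left_cancel (mul_right_cancel e1))⟩
  exact mem_fixAll.1 (h.pcoreAt_le_fixAll hbad hpair (by rw [mul_smul, hgc, hyc]) (hnc.transport c)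
    (hmem c hyc)) k hfk

omit hp in
/-- **The members at a point centralize the odd normal subgroups of its stabilizer.** -/
theorem centralize_oddNormal {x₀ : G} (hx₀ : IsBad M x₀)
    (hpair₀ : ∃ d e : G, IsConj z d ∧ IsConj z e ∧ Commute x₀ d ∧ Commute x₀ e ∧ Commute d e ∧ d ≠ e) :
    ∀ (a : G ⧸ M) (A : Subgroup G), A ≤ MulAction.stabilizer G a → Odd (Nat.card A) →
      MulAction.stabilizer G a ≤ normalizer (A : Set G) →
      ∀ d : G, IsConj z d → d • a = a → ∀ x ∈ A, Commute d x := by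
  intro a A hA hodd hn d hd hda x hxA
  haveI : Fact (Nat.Prime 2) := ⟨Nat.prime_two⟩
  have hdo := h.crit.orderOf_conj hd
  set O := coCore (MulAction.stabilizer G a) 2 with hO
  have hOodd : Odd (Nat.card O) := by
    rw [← Nat.not_even_iff_odd, even_iff_two_dvd]
    exact CfsgLib.CFun.not_dvd_coCore
  haveI : Group.IsSolvable O := Cfsg.Agent.S0205.result hOodd
  have hx : x ∈ O := le_coCore hA hn hodd.not_two_dvd_nat hxA
  have hdO : d ∈ normalizer (O : Set G) := le_normalizer_coCore (MulAction.mem_stabilizer_iff.2 hda)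
  set F := Cfsg.fittingOf O with hF
  have hdF : ∀ f ∈ F, Commute d f := by
    have hle : F ≤ centralizer ({d} : Set G) :=
      CfsgLib.CFun.fittingOf_le_of_cores fun q hq v hv => by
        haveI : Fact q.Prime := ⟨hq⟩
        exact mem_centralizer_singleton_iff.2 (h.pcoreAt_centralized hx₀ hpair₀ hd hda v hv).eq.symm
    exact fun f hf => (mem_centralizer_singleton_iff.1 (hle hf)).symm
  have hxN : x ∈ normalizer (F : Set G) := CfsgLib.CFun.le_normalizer_fittingOf hx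
  set c := x⁻¹ * (d * x * d⁻¹) with hc
  have hcO : c ∈ O := mul_mem (inv_mem hx) ((mem_normalizer_iff.1 hdO x).1 hx)
  have hcC : c ∈ centralizer (F : Set G) := mem_centralizer_iff.2 fun f hf => by
    have hxf : x * f * x⁻¹ ∈ F := (mem_normalizer_iff.1 hxN f).1 hf
    have e1 : d⁻¹ * f * d = f := by rw [mul_assoc, ← (hdF f hf).eq, inv_mul_cancel_left]
    have e2 : d * (x * f * x⁻¹) * d⁻¹ = x * f * x⁻¹ := by rw [(hdF _ hxf).eq, mul_inv_cancel_right]
    have e3 : c * f * c⁻¹ = f := by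
      calc c * f * c⁻¹ = x⁻¹ * (d * (x * (d⁻¹ * f * d) * x⁻¹) * d⁻¹) * x := by rw [hc]; group
        _ = f := by rw [e1, e2]; group
    calc f * c = c * f * c⁻¹ * c := by rw [e3]
      _ = c * f := inv_mul_cancel_right _ _
  have hdc : Commute d c := hdF c (CfsgLib.CFun.centralizer_fittingOf_le ⟨hcO, hcC⟩)
  have hinv : d * c * d⁻¹ = c⁻¹ := by
    rw [hc, invol_inv hdo]
    calc d * (x⁻¹ * (d * x * d)) * d = d * x⁻¹ * d * x * (d * d) := by group
      _ = d⁻¹ * x⁻¹ * d⁻¹ * x := by rw [invol_mul_self hdo, mul_one, invol_inv hdo]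
      _ = (x⁻¹ * (d * x * d))⁻¹ := by group
  have hc1 : c = 1 := eq_one_of_odd_of_pow_two (k := 1)
    (hOodd.of_dvd_nat (orderOf_dvd_natCard _ hcO)) (by
      rw [pow_one, pow_two, mul_eq_one_iff_eq_inv, ← hinv, hdc.eq, mul_inv_cancel_right])
  exact mul_inv_eq_iff_eq_mul.1 (inv_mul_eq_one.1 hc1).symm

end Setup

end CfsgLib.SECrit
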