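import Cfsg.Agent.Lib.Invol.SECriterion.Sub.Stage1
import Cfsg.Agent.Lib.Invol.SECriterion.SameClass
import Cfsg.Agent.Lib.Invol.SECriterion.TWeak.Pair
import Cfsg.Agent.Lib.Invol.RetractTransfer

/-!
# The strong embedding criterion: the cores of a point stabilizer fix the fixed points of a bad involution

For a bad involution `y` fixing `a`, with a commuting pair in its centralizer, the `p`-cores `O_p(O(G_x))`,
`x` a fixed point of `y`, cut down to the pointwise stabilizer of `Fix y` generate a `p`-group `P` normalized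
by `C(y)`; the normalizer of `P` contains the pair and moves `a`, and this forces the whole core at `a` to
fix `Fix y`.
-/

set_option autoImplicit false
set_option linter.style.haveILetI false

namespace CfsgLib.SECrit

open CfsgLib.Invol Subgroup
open CfsgLib.CFun (core coCore le_coCore core_le coCore_le isPGroup_core le_normalizer_core le_normalizer_coCore)
open CfsgLib.Coprime (conjBy mem_conjBy)

universe u

variable {G : Type u} [Group G] [Finite G] {M : Subgroup G} {z : G}

/-! ### Group theory -/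

/-- A normal `p`-subgroup lies in the `p`-core. -/
theorem le_core_of_normal {p : ℕ} {X H : Subgroup G} (hX : X ≤ H) (hn : H ≤ normalizer (X : Set G))
    (hp : IsPGroup p X) : X ≤ core H p := fun x hx =>
  haveI : (X.subgroupOf H).Normal := normal_subgroupOf_of_le_normalizer hn
  ⟨⟨x, hX hx⟩, CfsgLib.Coprime.le_pCore (hp.of_equiv (subgroupOfEquivOfLe hX).symm) (mem_subgroupOf.2 hx),
    rfl⟩

theorem core_conjBy_le {p : ℕ} [Fact p.Prime] (g : G) (D : Subgroup G) :
    conjBy g (core D p) ≤ core (conjBy g D) p :=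
  le_core_of_normal (map_mono core_le) ((map_mono le_normalizer_core).trans (le_normalizer_map _))
    (isPGroup_core.map _)

/-- Finitely many `p`-subgroups normalizing one another generate a `p`-group. -/
theorem isPGroup_iSup {p : ℕ} {ι : Type*} [Finite ι] {X : ι → Subgroup G}
    (hp : ∀ i, IsPGroup p (X i)) (hn : ∀ i j, X i ≤ normalizer (X j : Set G)) :
    IsPGroup p (⨆ i, X i : Subgroup G) := by
  classical
  letI := Fintype.ofFinite ι
  rw [← Finset.sup_univ_eq_iSup]
  induction (Finset.univ : Finset ι) using Finset.induction with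
  | empty => exact IsPGroup.of_bot
  | insert i s _ ih =>
    rw [Finset.sup_insert, sup_comm]
    exact ih.to_sup_of_normal_right' (hp i) (Finset.sup_le fun j _ => hn j i)

/-- A `p`-group normalizing a non-trivial `p`-subgroup centralizes a non-identity element of it. -/
theorem exists_fixed_of_normalized {p : ℕ} [hp : Fact p.Prime] {P X : Subgroup G} (hP : IsPGroup p P)
    (hX : IsPGroup p X) (hne : X ≠ ⊥) (hPX : P ≤ normalizer (X : Set G)) :
    ∃ w ∈ X, w ≠ 1 ∧ ∀ g ∈ P, Commute g w := by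
  letI : MulAction P X :=
    { smul := fun g f => ⟨(g : G) * f.1 * (g : G)⁻¹, (mem_normalizer_iff.1 (hPX g.2) f.1).1 f.2⟩
      one_smul := fun f => Subtype.ext (show ((1 : P) : G) * f.1 * ((1 : P) : G)⁻¹ = f.1 by simp)
      mul_smul := fun g k f => Subtype.ext (show ((g * k : P) : G) * f.1 * ((g * k : P) : G)⁻¹ =
        (g : G) * ((k : G) * f.1 * (k : G)⁻¹) * (g : G)⁻¹ by simp [mul_assoc]) }
  haveI : Nontrivial X := (Subgroup.nontrivial_iff_ne_bot X).2 hne
  have hdvd : p ∣ Nat.card X := by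
    obtain ⟨n, hn, hc⟩ := hX.nontrivial_iff_card.1 inferInstance
    rw [hc]; exact dvd_pow_self p (by omega)
  have h1 : (1 : X) ∈ MulAction.fixedPoints P X := fun g =>
    Subtype.ext (show (g : G) * ((1 : X) : G) * (g : G)⁻¹ = 1 by simp)
  obtain ⟨⟨w, hw⟩, hwf, hw1⟩ := hP.exists_fixed_point_of_prime_dvd_card_of_fixed_point X hdvd h1
  refine ⟨w, hw, fun e => hw1 (Subtype.ext e.symm), fun g hg => ?_⟩
  exact mul_inv_eq_iff_eq_mul.1 (show g * w * g⁻¹ = w from congrArg Subtype.val (hwf ⟨g, hg⟩))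

/-- The `p`-core of the odd core of the stabilizer of `a`. -/
def pcoreAt (p : ℕ) (a : G ⧸ M) : Subgroup G := core (coCore (MulAction.stabilizer G a) 2) p

variable {p : ℕ} [hp : Fact p.Prime]

theorem pcoreAt_fix {a : G ⧸ M} {w : G} (hw : w ∈ pcoreAt p a) : w • a = a :=
  MulAction.mem_stabilizer_iff.1 (coCore_le (core_le hw))

theorem isPGroup_pcoreAt (a : G ⧸ M) : IsPGroup p (pcoreAt p a) := isPGroup_core

omit hp in
theorem odd_pcoreAt (a : G ⧸ M) : Odd (Nat.card (pcoreAt p a)) := by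
  haveI : Fact (Nat.Prime 2) := ⟨Nat.prime_two⟩
  refine Odd.of_dvd_nat ?_ (card_dvd_of_le core_le)
  rw [← Nat.not_even_iff_odd, even_iff_two_dvd]
  exact CfsgLib.CFun.not_dvd_coCore

theorem conjBy_pcoreAt_le (g : G) (a : G ⧸ M) : conjBy g (pcoreAt p a) ≤ pcoreAt p (g • a) := by
  haveI : Fact (Nat.Prime 2) := ⟨Nat.prime_two⟩
  refine (core_conjBy_le g _).trans (le_of_eq ?_)
  have e : conjBy g (MulAction.stabilizer G a) = MulAction.stabilizer G (g • a) := by
    ext y
    simp only [mem_conjBy, MulAction.mem_stabilizer_iff, mul_smul, inv_smul_eq_iff]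
  rw [pcoreAt, TWeak.coCore_conjBy, e]

theorem conj_mem_pcoreAt {g w : G} {a : G ⧸ M} (hw : w ∈ pcoreAt p a) :
    g * w * g⁻¹ ∈ pcoreAt p (g • a) := conjBy_pcoreAt_le g a ⟨w, hw, rfl⟩

theorem mem_normalizer_pcoreAt {g : G} {a : G ⧸ M} (hg : g • a = a) :
    g ∈ normalizer (pcoreAt p a : Set G) :=
  CfsgLib.ProdFusion.mem_of_forall_conj_mem fun w hw => by
    simpa only [hg] using conj_mem_pcoreAt (g := g) hw

/-- A normal odd `p`-subgroup of the stabilizer of `a` lies in `pcoreAt p a`. -/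
theorem le_pcoreAt {a : G ⧸ M} {X : Subgroup G} (hXa : X ≤ MulAction.stabilizer G a)
    (hn : MulAction.stabilizer G a ≤ normalizer (X : Set G)) (hXp : IsPGroup p X)
    (hXo : Odd (Nat.card X)) : X ≤ pcoreAt p a := by
  haveI : Fact (Nat.Prime 2) := ⟨Nat.prime_two⟩
  exact le_core_of_normal (le_coCore hXa hn hXo.not_two_dvd_nat) (coCore_le.trans hn) hXp

/-- The pointwise stabilizer of the fixed points of `y`. -/
def fixAll (M : Subgroup G) (y : G) : Subgroup G :=
  ⨅ c : {c : G ⧸ M // y • c = c}, MulAction.stabilizer G c.1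

omit [Finite G] in
theorem mem_fixAll {y w : G} : w ∈ fixAll M y ↔ ∀ c : G ⧸ M, y • c = c → w • c = c := by
  simp [fixAll, Subgroup.mem_iInf]

omit [Finite G] in
theorem conj_mem_fixAll {y g w : G} (hg : Commute y g) (hw : w ∈ fixAll M y) :
    g * w * g⁻¹ ∈ fixAll M y := by
  refine mem_fixAll.2 fun c hc => ?_
  have hc' : y • (g⁻¹ • c) = g⁻¹ • c := by rw [smul_smul, hg.inv_right.eq, mul_smul, hc]
  rw [mul_smul, mul_smul, mem_fixAll.1 hw _ hc', smul_inv_smul]

namespace Crit

variable (h : Crit M z)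
include h

omit hp in
/-- A commuting pair at each fixed point of a bad involution with a pair in its centralizer. -/
theorem exists_pair_at {y : G} (hy : IsBad M y)
    (hpair : ∃ d e : G, IsConj z d ∧ IsConj z e ∧ Commute y d ∧ Commute y e ∧ Commute d e ∧ d ≠ e)
    {a : G ⧸ M} (hya : y • a = a) : ∃ d e : G, IsConj z d ∧ IsConj z e ∧ Commute y d ∧ Commute y e ∧
      Commute d e ∧ d ≠ e ∧ d • a = a ∧ e • a = a := by
  obtain ⟨hyo, p, q, hpq, hyp, hyq⟩ := hy
  obtain ⟨d₀, e₀, hd₀, he₀, hyd₀, hye₀, hde₀, hne₀⟩ := hpair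
  obtain ⟨d, hd, hda, hyd⟩ := h.exists_commuting_invol hyo hya
  obtain ⟨u, hu, hud⟩ := h.exists_conj_commuting (isPGroup_zpowers_invol hyo) hpq
    (forall_zpowers_fix hyp) (forall_zpowers_fix hyq) hd₀ hd (forall_zpowers_commute hyd₀)
    (forall_zpowers_commute hyd)
  have huy : Commute y u := hu y (mem_zpowers y)
  refine ⟨d, u * e₀ * u⁻¹, hd, he₀.trans (isConj_iff.2 ⟨u, rfl⟩), hyd,
    (huy.mul_right hye₀).mul_right huy.inv_right, ?_, ?_, hda, ?_⟩
  · rw [← hud]; exact (Commute.conj_iff u).2 hde₀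
  · rw [← hud]; exact fun e1 => hne₀ (mul_left_cancel (mul_right_cancel e1))
  · refine h.smul_of_commute hd ?_ hda
    rw [← hud]; exact (Commute.conj_iff u).2 hde₀.symm

omit hp in
/-- The centralizer of a bad involution is transitive on its fixed points. -/
theorem exists_commute_smul {y : G} (hy : IsBad M y) {a c : G ⧸ M} (hya : y • a = a) (hyc : y • c = c) :
    ∃ u : G, Commute y u ∧ u • a = c := by
  obtain ⟨hyo, p, q, hpq, hyp, hyq⟩ := hy
  obtain ⟨d, hd, hda, hyd⟩ := h.exists_commuting_invol hyo hya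
  obtain ⟨f, hf, hfc, hyf⟩ := h.exists_commuting_invol hyo hyc
  obtain ⟨u, hu, huf⟩ := h.exists_conj_commuting (isPGroup_zpowers_invol hyo) hpq
    (forall_zpowers_fix hyp) (forall_zpowers_fix hyq) hd hf (forall_zpowers_commute hyd)
    (forall_zpowers_commute hyf)
  exact ⟨u, hu y (mem_zpowers y), h.smul_eq_of_conj hf huf hda hfc⟩

end Crit

namespace Setup

variable (h : Setup M z)
include h

omit hp in
/-- An element centralising a bad involution, in an odd normal subgroup of the stabilizer of one of its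
fixed points, fixes all of them. -/
theorem mem_fixAll_of_commute {y : G} (hy : IsBad M y)
    (hpair : ∃ d e : G, IsConj z d ∧ IsConj z e ∧ Commute y d ∧ Commute y e ∧ Commute d e ∧ d ≠ e)
    {a : G ⧸ M} (hya : y • a = a) {A : Subgroup G} (hAa : ∀ x ∈ A, x • a = a)
    (hAodd : Odd (Nat.card A)) (hAn : ∀ g : G, g • a = a → g ∈ normalizer (A : Set G)) {w : G}
    (hw : w ∈ A) (hwy : Commute y w) : w ∈ fixAll M y := by
  obtain ⟨d, e, hd, he, hyd, hye, hde, hne, hda, -⟩ := h.crit.exists_pair_at hy hpair hya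
  set L := centralizer ({y} : Set G) with hL
  have hmemL : ∀ g : G, Commute y g → g ∈ L := fun g hg => mem_centralizer_singleton_iff.2 hg.symm
  have hLne : L ≠ ⊤ := h.centralizer_ne_top hy.1 hya
  refine mem_fixAll.2 fun c hc => ?_
  obtain ⟨u, hyu, huc⟩ := h.crit.exists_commute_smul hy hya hc
  rw [← huc]
  by_cases hca : c = a
  · rw [huc, hca]; exact hAa w hw
  exact h.fix_orbit hLne hd he (hmemL d hyd) (hmemL e hye) hda hde hne
    ⟨u, hmemL u hyu, by rw [huc]; exact hca⟩ (W := A ⊓ L) inf_le_right (fun x hx => hAa x hx.1)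
    (hAodd.of_dvd_nat (card_dvd_of_le inf_le_left))
    (fun l hl hla => mem_normalizer_inf' (hAn l hla) (le_normalizer hl)) (hmemL u hyu)
    ⟨hw, hmemL w hwy⟩

/-- **If a bad involution centralises a non-identity element of the `p`-core at one of its fixed points,
the whole core fixes all its fixed points.** -/
theorem pcoreAt_le_fixAll_of_commute {y : G} (hy : IsBad M y)
    (hpair : ∃ d e : G, IsConj z d ∧ IsConj z e ∧ Commute y d ∧ Commute y e ∧ Commute d e ∧ d ≠ e)
    {a : G ⧸ M} (hya : y • a = a) {w : G} (hw : w ∈ pcoreAt p a) (hw1 : w ≠ 1) (hwy : Commute y w) :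
    pcoreAt p a ≤ fixAll M y := by
  set F := {c : G ⧸ M // y • c = c} with hF
  set X : F → Subgroup G := fun c => pcoreAt p c.1 ⊓ fixAll M y with hX
  set P : Subgroup G := ⨆ c, X c with hP
  have hXn : ∀ i j, X i ≤ normalizer (X j : Set G) := fun i j g hg =>
    mem_normalizer_inf' (mem_normalizer_pcoreAt (mem_fixAll.1 hg.2 j.1 j.2)) (le_normalizer hg.2)
  have hPp : IsPGroup p P := isPGroup_iSup (fun c => (isPGroup_pcoreAt c.1).to_le inf_le_left) hXn
  have hPK : P ≤ fixAll M y := iSup_le fun c => inf_le_right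
  have hPa : ∀ r ∈ P, r • a = a := fun r hr => mem_fixAll.1 (hPK hr) a hya
  have hXP : pcoreAt p a ⊓ fixAll M y ≤ P := le_iSup X ⟨a, hya⟩
  have hCN : ∀ g : G, Commute y g → g ∈ normalizer (P : Set G) := fun g hg => by
    refine CfsgLib.ProdFusion.mem_of_forall_conj_mem fun x hx => ?_
    have hle : P ≤ P.comap (MulAut.conj g).toMonoidHom := iSup_le fun c x hx =>
      le_iSup X ⟨g • c.1, by rw [smul_smul, hg.eq, mul_smul, c.2]⟩
        ⟨conj_mem_pcoreAt hx.1, conj_mem_fixAll hg hx.2⟩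
    exact hle hx
  set L := normalizer (P : Set G) with hL
  have hwP : w ∈ P := hXP ⟨hw, h.mem_fixAll_of_commute hy hpair hya (fun x hx => pcoreAt_fix hx)
    (odd_pcoreAt a) (fun g hg => mem_normalizer_pcoreAt hg) hw hwy⟩
  have hLne : L ≠ ⊤ := h.normalizer_ne_top hPa (fun e => hw1 (mem_bot.1 (e ▸ hwP)))
  obtain ⟨d, e, hd, he, hyd, hye, hde, hne, hda, -⟩ := h.crit.exists_pair_at hy hpair hya
  obtain ⟨c, hyc, hca⟩ : ∃ c : G ⧸ M, y • c = c ∧ c ≠ a := by
    obtain ⟨-, p, q, hpq, hyp, hyq⟩ := hy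
    by_cases hpa : p = a
    · exact ⟨q, hyq, fun hh => hpq (hpa.trans hh.symm)⟩
    · exact ⟨p, hyp, hpa⟩
  obtain ⟨u, hyu, hua⟩ := h.crit.exists_commute_smul hy hya hyc
  -- the core meets the normalizer in `P`
  have hAL : pcoreAt p a ⊓ L ≤ P := fun x hx => by
    refine hXP ⟨hx.1, mem_fixAll.2 fun b hb => ?_⟩
    obtain ⟨v, hyv, hva⟩ := h.crit.exists_commute_smul hy hya hb
    rw [← hva]
    exact h.fix_orbit hLne hd he (hCN d hyd) (hCN e hye) hda hde hne
      ⟨u, hCN u hyu, by rw [hua]; exact hca⟩ (W := pcoreAt p a ⊓ L) inf_le_right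
      (fun x hx => pcoreAt_fix hx.1) ((odd_pcoreAt a).of_dvd_nat (card_dvd_of_le inf_le_left))
      (fun l hl hla => mem_normalizer_inf' (mem_normalizer_pcoreAt hla) (le_normalizer hl)) (hCN v hyv) hx
  have hPA : P ≤ normalizer (pcoreAt p a : Set G) := fun r hr => mem_normalizer_pcoreAt (hPa r hr)
  by_contra hnle
  obtain ⟨x, hx, hxN, hxP⟩ := CfsgLib.Invol.exists_mem_normalizer_notMem
    (hPp.to_sup_of_normal_right' (isPGroup_pcoreAt a) hPA) le_sup_left
    (fun hle => hnle ((le_sup_right.trans hle).trans hPK))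
  rw [sup_comm] at hx
  obtain ⟨v, hv, r, hr, rfl⟩ := CfsgLib.Coprime.mem_sup_exists hPA hx
  have hvN : v ∈ L := by
    have := mul_mem hxN (inv_mem (le_normalizer hr : r ∈ L))
    rwa [mul_inv_cancel_right] at this
  exact hxP (mul_mem (hAL ⟨hv, hvN⟩) hr)

omit hp in
/-- A bad involution and its product with a conjugate of `z` from a pair centralizing it are conjugate
by an element fixing the point of the pair. -/
theorem exists_fix_conj_mul {y d e : G} (hy : IsBad M y) {a : G ⧸ M} (hya : y • a = a) (hd : IsConj z d)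
    (he : IsConj z e) (hda : d • a = a) (hyd : Commute y d) (hye : Commute y e) (hde : Commute d e)
    (hne : d ≠ e) : ∃ u : G, u • a = a ∧ u * y * u⁻¹ = y * d := by
  obtain ⟨hyo, p, q, hpq, hyp, hyq⟩ := hy
  obtain ⟨k, hk⟩ := isConj_iff.1 (h.crit.isConj_mul_member h.hfree hyo hpq hyp hyq hd he hyd hye hde hne
    hd hyd)
  have hka : (y * d) • (k • a) = k • a := by rw [← hk, smul_smul, inv_mul_cancel_right, mul_smul, hya]
  have hbad : IsBad M (y * d) := ⟨by rw [← hk]; exact ((MulAut.conj k).orderOf_eq y).trans hyo, k • p, k • q,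
    fun e1 => hpq (smul_left_cancel k e1),
    by rw [← hk, smul_smul, inv_mul_cancel_right, mul_smul, hyp],
    by rw [← hk, smul_smul, inv_mul_cancel_right, mul_smul, hyq]⟩
  obtain ⟨v, hv, hva⟩ := h.crit.exists_commute_smul hbad hka (by rw [mul_smul, hda, hya])
  refine ⟨v * k, by rw [mul_smul, hva], ?_⟩
  calc v * k * y * (v * k)⁻¹ = v * (k * y * k⁻¹) * v⁻¹ := by group
    _ = (y * d) * v * v⁻¹ := by rw [hk, hv.eq]
    _ = y * d := mul_inv_cancel_right _ _

omit hp in
/-- A bad involution at `a` with a pair neither centralizes nor inverts a normal subgroup of `G_a` which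
is not centralized by all conjugates of `z` at `a`. -/
theorem not_centralize_or_invert {y : G} (hy : IsBad M y)
    (hpair : ∃ d e : G, IsConj z d ∧ IsConj z e ∧ Commute y d ∧ Commute y e ∧ Commute d e ∧ d ≠ e)
    {a : G ⧸ M} (hya : y • a = a) {A : Subgroup G}
    (hAn : ∀ g : G, g • a = a → g ∈ normalizer (A : Set G))
    (hnc : ∃ c : G, IsConj z c ∧ c • a = a ∧ ∃ w ∈ A, ¬ Commute c w) :
    (∃ w ∈ A, ¬ Commute y w) ∧ ∃ w ∈ A, y * w * y⁻¹ ≠ w⁻¹ := by
  obtain ⟨d, e, hd, he, hyd, hye, hde, hne, hda, -⟩ := h.crit.exists_pair_at hy hpair hya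
  obtain ⟨c, hc, hca, w₀, hw₀, hcw⟩ := hnc
  obtain ⟨b, hba⟩ : ∃ b : G ⧸ M, b ≠ a := by
    obtain ⟨-, p, q, hpq, -, -⟩ := hy
    by_cases hpa : p = a
    · exact ⟨q, fun hh => hpq (hpa.trans hh.symm)⟩
    · exact ⟨p, hpa⟩
  -- otherwise `d` centralizes `A`, so all conjugates at `a` do
  have key : (∀ w ∈ A, Commute d w) → False := fun hall => by
    obtain ⟨m, hma, -, hmc⟩ := h.crit.exists_pair_conj hba.symm hd hda hc hca
    refine hcw ?_
    have hw' : m⁻¹ * w₀ * m ∈ A := (mem_normalizer_iff''.1 (hAn m hma) w₀).1 hw₀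
    have := (Commute.conj_iff m).2 (hall _ hw')
    rwa [hmc, show m * (m⁻¹ * w₀ * m) * m⁻¹ = w₀ by group] at this
  obtain ⟨u, hua, huy⟩ := h.exists_fix_conj_mul hy hya hd he hda hyd hye hde hne
  have hback : ∀ w ∈ A, u⁻¹ * w * u ∈ A := fun w hw => (mem_normalizer_iff''.1 (hAn u hua) w).1 hw
  constructor
  · by_contra hcon
    push Not at hcon
    refine key fun w hw => ?_
    have hydw : Commute (y * d) w := by
      have := (Commute.conj_iff u).2 (hcon _ (hback w hw))
      rwa [huy, show u * (u⁻¹ * w * u) * u⁻¹ = w by group] at this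
    have := (hcon w hw).inv_left.mul_left hydw
    rwa [inv_mul_cancel_left] at this
  · by_contra hcon
    push Not at hcon
    refine key fun w hw => ?_
    have h1 : (y * d) * w * (y * d)⁻¹ = y * w * y⁻¹ := by
      rw [hcon w hw, ← huy]
      calc u * y * u⁻¹ * w * (u * y * u⁻¹)⁻¹ = u * (y * (u⁻¹ * w * u) * y⁻¹) * u⁻¹ := by group
        _ = w⁻¹ := by rw [hcon _ (hback w hw)]; group
    have h2 : d * w * d⁻¹ = w := by
      refine mul_left_cancel (a := y) (mul_right_cancel (b := y⁻¹) ?_)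
      calc y * (d * w * d⁻¹) * y⁻¹ = (y * d) * w * (y * d)⁻¹ := by group
        _ = y * w * y⁻¹ := h1
    exact mul_inv_eq_iff_eq_mul.1 h2

/-- The centralizer of a bad involution with a pair meets a non-centralized core non-trivially, so the
core fixes all its fixed points. -/
theorem pcoreAt_le_fixAll {y : G} (hy : IsBad M y)
    (hpair : ∃ d e : G, IsConj z d ∧ IsConj z e ∧ Commute y d ∧ Commute y e ∧ Commute d e ∧ d ≠ e)
    {a : G ⧸ M} (hya : y • a = a)
    (hnc : ∃ c : G, IsConj z c ∧ c • a = a ∧ ∃ w ∈ pcoreAt p a, ¬ Commute c w) :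
    pcoreAt p a ≤ fixAll M y := by
  obtain ⟨-, w₁, hw₁, hne₁⟩ := h.not_centralize_or_invert hy hpair hya
    (fun g hg => mem_normalizer_pcoreAt hg) hnc
  obtain ⟨w, hw, hw1, hyw⟩ : ∃ w ∈ pcoreAt p a, w ≠ 1 ∧ Commute y w := by
    by_contra hcon
    push Not at hcon
    refine hne₁ (inverts_of_fixedPointFree hy.1
      (fun x hx => (mem_normalizer_iff.1 (mem_normalizer_pcoreAt hya) x).1 hx) ?_ w₁ hw₁)
    exact fun x hx hfix => by_contra fun hx1 => hcon x hx hx1 (mul_inv_eq_iff_eq_mul.1 hfix)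
  exact h.pcoreAt_le_fixAll_of_commute hy hpair hya hw hw1 hyw

end Setup

end CfsgLib.SECrit
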