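import Cfsg.Agent.Lib.Invol.SECriterion.Local.Base
import Cfsg.Agent.Lib.Invol.SECriterion.PureE
import Cfsg.Agent.Lib.Invol.SECriterion.Instances

/-!
# The strong embedding criterion: subgroups containing a moving member

Two conjugates of `z` at one point centralizing a bad involution commute modulo its kernel; hence a
two-subgroup containing a conjugate of `z` centralizes one of its members, and every subgroup with a
conjugate of `z` that moves the point of this conjugate again satisfies the criterion.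
-/

set_option autoImplicit false
set_option linter.style.haveILetI false

namespace CfsgLib.SECrit

open CfsgLib.Invol Subgroup

universe u

variable {G : Type u} [Group G] [Finite G] {M : Subgroup G} {z : G}

namespace Setup

variable (h : Setup M z)
include h

/-- Two conjugates at one point centralizing a bad involution commute modulo its kernel. -/
theorem sq_mem_locKer {x : G} (hx : orderOf x = 2) {p q : G ⧸ M} (hpq : p ≠ q) (hxp : x • p = p)
    (hxq : x • q = q) {d₀ e₀ : G} (hd₀ : IsConj z d₀) (he₀ : IsConj z e₀) (hxd₀ : Commute x d₀)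
    (hxe₀ : Commute x e₀) (hde₀ : Commute d₀ e₀) (hne₀ : d₀ ≠ e₀) {d e : G} {a : G ⧸ M} (hd : IsConj z d)
    (he : IsConj z e) (hxd : Commute x d) (hxe : Commute x e) (hda : d • a = a) (hea : e • a = a) :
    (d * e) ^ 2 ∈ locKer M z x := by
  haveI : Fact (Nat.Prime 2) := ⟨Nat.prime_two⟩
  have hxa : x • a = a := h.crit.smul_of_commute hd hxd hda
  obtain ⟨Q, hQ, -, -⟩ := h.loc_regular hx hpq hxp hxq hd₀ he₀ hxd₀ hxe₀ hde₀ hne₀ hxa
  have hmemQ : ∀ c : G, IsConj z c → Commute x c → c • a = a → c ∈ Q := fun c hc hxc hca =>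
    (hQ c).2 ⟨mem_locGroup hc hxc, hca, 1, by
      rw [pow_one, pow_two, invol_mul_self (h.crit.orderOf_conj hc)]; exact one_mem _⟩
  set K := locKer M z x with hK
  have hconj : ∀ g : G, g ∈ locGroup z x → ∀ k ∈ K, g * k * g⁻¹ ∈ K := fun g hg k hk =>
    mem_locKer.2 ⟨mul_mem (mul_mem hg (mem_locKer.1 hk).1) (inv_mem hg), fun b hb => by
      rw [mul_smul, mul_smul, (mem_locKer.1 hk).2 _ (smul_mem_fix (commute_of_mem_locGroup hg).inv_right hb),
        smul_inv_smul]⟩
  haveI hn : (K.subgroupOf Q).Normal := ⟨fun k hk g => mem_subgroupOf.2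
    (hconj _ ((hQ g).1 g.2).1 _ (mem_subgroupOf.1 hk))⟩
  set π := QuotientGroup.mk' (K.subgroupOf Q) with hπ
  have hone : ∀ g : Q, π g = 1 ↔ (g : G) ∈ K := fun g => by
    rw [hπ, QuotientGroup.mk'_apply, QuotientGroup.eq_one_iff, mem_subgroupOf]
  have hP : IsPGroup 2 (Q ⧸ K.subgroupOf Q) := by
    intro gb
    obtain ⟨g, rfl⟩ := QuotientGroup.mk'_surjective _ gb
    obtain ⟨k, hk⟩ := ((hQ g).1 g.2).2.2
    exact ⟨k, by rw [← map_pow, hone]; simpa using hk⟩
  haveI : Nontrivial (Q ⧸ K.subgroupOf Q) := ⟨π ⟨d, hmemQ d hd hxd hda⟩, 1, fun e1 =>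
    h.not_mem_locKer_of_isConj hx hpq hxp hxq hd ((hone _).1 e1)⟩
  -- a central involution of the quotient
  haveI := hP.center_nontrivial
  obtain ⟨s, hs⟩ := exists_prime_orderOf_dvd_card' (G := center (Q ⧸ K.subgroupOf Q)) 2 (by
    obtain ⟨m, hm⟩ := ((hP.to_subgroup (center (Q ⧸ K.subgroupOf Q))).nontrivial_iff_card).1 inferInstance
    rw [hm.2]; exact dvd_pow_self 2 (by omega))
  obtain ⟨s', hs'⟩ := QuotientGroup.mk'_surjective _ (s : Q ⧸ K.subgroupOf Q)
  have hso : orderOf (π s') = 2 := by rw [hs', orderOf_coe]; exact hs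
  obtain ⟨c, hc, hxc, hck⟩ := h.lift_invol hx hpq hxp hxq ((hQ s').1 s'.2).1
    ((hone (s' * s')).1 (by rw [map_mul, ← pow_two, ← hso, pow_orderOf_eq_one]))
    (fun e1 => by rw [(hone s').2 e1, orderOf_one] at hso; omega)
  have hca : c • a = a := by
    conv_lhs => rw [← (mem_locKer.1 hck).2 a hxa, smul_smul, mul_inv_cancel_left]
    exact ((hQ s').1 s'.2).2.1
  have hcπ : π ⟨c, hmemQ c hc hxc hca⟩ = π s' := QuotientGroup.eq.2 (mem_subgroupOf.2 hck)
  obtain ⟨u, hu, hud⟩ := h.crit.exists_conj_commuting (Crit.isPGroup_zpowers_invol hx) hpq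
    (Crit.forall_zpowers_fix hxp) (Crit.forall_zpowers_fix hxq) hc hd (forall_zpowers_commute hxc)
    (forall_zpowers_commute hxd)
  have hua : u • a = a := h.crit.smul_eq_of_conj hd hud hca hda
  have hxu : Commute x u⁻¹ := (hu x (mem_zpowers x)).inv_right
  have hua' : u⁻¹ • a = a := inv_smul_eq_iff.2 hua.symm
  set e' := u⁻¹ * e * u⁻¹⁻¹ with he'
  have he'c : IsConj z e' := he.trans (isConj_iff.2 ⟨u⁻¹, rfl⟩)
  have he'x : Commute x e' := (hxu.mul_right hxe).mul_right hxu.inv_right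
  have he'a : e' • a = a := by rw [he', mul_smul, mul_smul, inv_inv, hua, hea, hua']
  have hcomm : Commute (π ⟨c, hmemQ c hc hxc hca⟩) (π ⟨e', hmemQ e' he'c he'x he'a⟩) := by
    rw [hcπ, hs']
    exact (mem_center_iff.1 s.2 _).symm
  have h1 : (c * e') ^ 2 ∈ K := by
    have := (hone ((⟨c, hmemQ c hc hxc hca⟩ * ⟨e', hmemQ e' he'c he'x he'a⟩) ^ 2)).1 (by
      rw [map_pow, map_mul, hcomm.mul_pow, ← map_pow, ← map_pow, pow_two, pow_two,
        show (⟨c, hmemQ c hc hxc hca⟩ : Q) * ⟨c, _⟩ = 1 from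
          Subtype.ext (invol_mul_self (h.crit.orderOf_conj hc)),
        show (⟨e', hmemQ e' he'c he'x he'a⟩ : Q) * ⟨e', _⟩ = 1 from
          Subtype.ext (invol_mul_self (h.crit.orderOf_conj he'c)), map_one, mul_one])
    simpa using this
  have e2 : (d * e) ^ 2 = u * (c * e') ^ 2 * u⁻¹ := by
    rw [← conj_pow, he', ← hud]; group
  rw [e2]
  refine mem_locKer.2 ⟨?_, fun b hb => ?_⟩
  · rw [← e2]
    exact pow_mem (mul_mem (mem_locGroup hd hxd) (mem_locGroup he hxe)) _
  · rw [mul_smul, mul_smul, (mem_locKer.1 h1).2 _ (smul_mem_fix hxu hb), smul_inv_smul]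

/-- Two conjugates at one point in a two-group with a bad involution commuting with both commute. -/
theorem commute_of_two_power {x : G} (hx : IsBad M x) {d e : G} {a : G ⧸ M} (hd : IsConj z d)
    (he : IsConj z e) (hxd : Commute x d) (hxe : Commute x e) (hda : d • a = a) (hea : e • a = a)
    {k : ℕ} (hk : (d * e) ^ 2 ^ k = 1) : Commute d e := by
  obtain ⟨hxo, p, q, hpq, hxp, hxq⟩ := hx
  have hdo := h.crit.orderOf_conj hd
  have heo := h.crit.orderOf_conj he
  obtain ⟨n, -, hn⟩ := (Nat.dvd_prime_pow Nat.prime_two).1 (orderOf_dvd_of_pow_eq_one hk)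
  by_cases h2 : (d * e) ^ 2 = 1
  · show d * e = e * d
    rw [← inv_eq_of_mul_eq_one_right (by rwa [pow_two] at h2 : d * e * (d * e) = 1), mul_inv_rev,
      invol_inv hdo, invol_inv heo]
  exfalso
  obtain ⟨n, rfl⟩ : ∃ m, n = m + 2 := by
    rcases n with - | - | m
    · exact absurd (by rw [orderOf_eq_one_iff.1 (hn.trans (pow_zero 2) : orderOf (d * e) = 1), one_pow]) h2
    · exact absurd (orderOf_dvd_iff_pow_eq_one.1 (by rw [hn]; norm_num)) h2
    · exact ⟨m, rfl⟩
  have heven : Even (orderOf (d * e)) := by rw [hn, pow_succ]; exact even_iff_two_dvd.2 (dvd_mul_left _ _)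
  set w := (d * e) ^ (orderOf (d * e) / 2) with hw
  have hwo : orderOf w = 2 := orderOf_pow_half heven
  have hwd : Commute w d := commute_pow_half (invol_conj_mul hdo heo) heven
  have hf : IsConj z (d * w) := hw ▸ h.crit.isConj_mul_half hd he
  have hdf : Commute d (d * w) := (Commute.refl d).mul_right hwd.symm
  have hne : d ≠ d * w := fun hh => invol_ne_one hwo (left_eq_mul.1 hh)
  have hxw : Commute x w := (hxd.mul_right hxe).pow_right _
  have hsq := h.sq_mem_locKer hxo hpq hxp hxq hd hf hxd (hxd.mul_right hxw) hdf hne hd he hxd hxe hda hea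
  refine h.mul_not_mem_locKer hxo hpq hxp hxq hd hf hdf hne ?_
  rw [← mul_assoc, invol_mul_self hdo, one_mul, hw, hn,
    show 2 ^ (n + 2) / 2 = 2 * 2 ^ n by rw [pow_succ, Nat.mul_div_cancel _ two_pos, pow_succ']  , pow_mul]
  exact pow_mem hsq _

/-- A two-subgroup containing a conjugate of `z` centralizes one of its members. -/
theorem exists_central_member {T : Subgroup G} (hT : IsPGroup 2 T) {d : G} (hd : IsConj z d) (hdT : d ∈ T)
    {a : G ⧸ M} (hda : d • a = a) : ∃ e ∈ T, IsConj z e ∧ e • a = a ∧ ∀ g ∈ T, Commute g e := by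
  classical
  haveI : Fact (Nat.Prime 2) := ⟨Nat.prime_two⟩
  obtain ⟨b, hb⟩ := hT.nonempty_fixed_point_of_prime_not_dvd_card (G ⧸ M)
    (fun hh => Nat.not_even_iff_odd.2 h.crit.odd_index (even_iff_two_dvd.2 hh))
  have hba : b = a := h.crit.fix_unique hd (hb ⟨d, hdT⟩) hda
  have hTa : ∀ g ∈ T, g • a = a := fun g hg => hba ▸ hb ⟨g, hg⟩
  haveI : Nontrivial T := ⟨⟨d, hdT⟩, 1, fun e1 =>
    invol_ne_one (h.crit.orderOf_conj hd) (congrArg Subtype.val e1)⟩
  haveI := hT.center_nontrivial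
  obtain ⟨⟨⟨t, htT⟩, htc⟩, hto⟩ := exists_prime_orderOf_dvd_card' (G := center T) 2 (by
    obtain ⟨m, hm⟩ := ((hT.to_subgroup (center T)).nontrivial_iff_card).1 inferInstance
    rw [hm.2]; exact dvd_pow_self 2 (by omega))
  rw [← orderOf_coe, ← orderOf_coe] at hto
  have htcomm : ∀ g ∈ T, Commute g t := fun g hg => congrArg Subtype.val (mem_center_iff.1 htc ⟨g, hg⟩)
  by_cases hzt : IsConj z t
  · exact ⟨t, htT, hzt, hTa t htT, htcomm⟩
  have htbad : IsBad M t := by
    refine ⟨hto, ?_⟩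
    by_contra hh
    refine hzt (h.crit.isConj_of_unique_fix h.hfree hto fun p q hp hq => ?_)
    by_contra hpq
    exact hh ⟨p, q, hpq, hp, hq⟩
  -- the members in `T` commute
  have hcomm : ∀ f g : G, IsConj z f → f ∈ T → IsConj z g → g ∈ T → Commute f g := by
    intro f g hf hfT hg hgT
    obtain ⟨k, hk⟩ := hT ⟨f * g, mul_mem hfT hgT⟩
    exact h.commute_of_two_power htbad hf hg (htcomm f hfT).symm (htcomm g hgT).symm (hTa f hfT)
      (hTa g hgT) (congrArg Subtype.val hk :)
  let E : Subgroup G :=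
    { carrier := {g | g = 1 ∨ (IsConj z g ∧ g ∈ T)}
      one_mem' := Or.inl rfl
      inv_mem' := by
        rintro g (rfl | ⟨hg, hgT⟩)
        · exact Or.inl inv_one
        · exact Or.inr ⟨by rwa [invol_inv (h.crit.orderOf_conj hg)], inv_mem hgT⟩
      mul_mem' := by
        rintro f g (rfl | ⟨hf, hfT⟩) (rfl | ⟨hg, hgT⟩)
        · exact Or.inl (one_mul 1)
        · rw [one_mul]; exact Or.inr ⟨hg, hgT⟩
        · rw [mul_one]; exact Or.inr ⟨hf, hfT⟩
        · rcases eq_or_ne f g with rfl | hne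
          · exact Or.inl (invol_mul_self (h.crit.orderOf_conj hf))
          · exact Or.inr ⟨h.isConj_mul hf hg (hcomm f g hf hfT hg hgT) hne, mul_mem hfT hgT⟩ }
  have hET : E ≤ T := by
    rintro g (rfl | ⟨-, hg⟩)
    exacts [one_mem T, hg]
  have hE : 2 ∣ Nat.card E := by
    have h1 : orderOf (⟨d, Or.inr ⟨hd, hdT⟩⟩ : E) ∣ Nat.card E := orderOf_dvd_natCard _
    rwa [← Subgroup.orderOf_coe, show ((⟨d, Or.inr ⟨hd, hdT⟩⟩ : E) : G) = d from rfl, h.crit.orderOf_conj hd] at h1
  let X := {g : G // IsConj z g ∧ g ∈ T}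
  have hXE : Nat.card X + 1 = Nat.card E := by
    have e1 : (E : Set G) = insert 1 {g : G | IsConj z g ∧ g ∈ T} := rfl
    calc Nat.card X + 1 = Set.ncard {g : G | IsConj z g ∧ g ∈ T} + 1 := by
          rw [← Nat.card_coe_set_eq]; rfl
      _ = Set.ncard (E : Set G) := by
          rw [e1, Set.ncard_insert_of_notMem
            (fun hh => invol_ne_one (h.crit.orderOf_conj hh.1) rfl) (Set.toFinite _)]
      _ = Nat.card E := (Nat.card_coe_set_eq _).symm
  letI : MulAction T X :=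
    { smul := fun g f => ⟨(g : G) * f.1 * (g : G)⁻¹, f.2.1.trans (isConj_iff.2 ⟨g, rfl⟩),
        mul_mem (mul_mem g.2 f.2.2) (inv_mem g.2)⟩
      one_smul := fun f => Subtype.ext (show ((1 : T) : G) * f.1 * ((1 : T) : G)⁻¹ = f.1 by simp)
      mul_smul := fun g k f => Subtype.ext (show ((g * k : T) : G) * f.1 * ((g * k : T) : G)⁻¹ =
        (g : G) * ((k : G) * f.1 * (k : G)⁻¹) * (g : G)⁻¹ by simp [mul_assoc]) }
  obtain ⟨⟨e, he, heT⟩, hefix⟩ := hT.nonempty_fixed_point_of_prime_not_dvd_card X (fun hh => by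
    rw [← hXE] at hE; omega)
  exact ⟨e, heT, he, hTa e heT, fun g hg => mul_inv_eq_iff_eq_mul.1
    (show g * e * g⁻¹ = e from congrArg Subtype.val (hefix ⟨g, hg⟩))⟩

/-- **A subgroup with a moving member satisfies the criterion.** -/
theorem sub_crit {L : Subgroup G} {d : G} (hd : IsConj z d) (hdL : d ∈ L) {a : G ⧸ M} (hda : d • a = a)
    (hmove : ∃ g ∈ L, g • a ≠ a) :
    Crit ((MulAction.stabilizer G a).subgroupOf L) ⟨d, hdL⟩ := by
  classical
  haveI : Fact (Nat.Prime 2) := ⟨Nat.prime_two⟩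
  have hca := h.crit.at_point hd hda
  have hdo := h.crit.orderOf_conj hd
  refine ⟨by rw [orderOf_mk]; exact hdo, hda, ?_, fun g hg => hca.fuse g hg, ?_⟩
  · obtain ⟨S, hS⟩ := IsPGroup.exists_le_sylow (p := 2) (G := L) (P := zpowers (⟨d, hdL⟩ : L))
      (IsPGroup.of_card (n := 1) (by rw [Nat.card_zpowers, orderOf_mk, hdo, pow_one]))
    obtain ⟨e, heT, he, hea, hce⟩ := h.exists_central_member (T := (S : Subgroup L).map L.subtype)
      (S.2.map _) hd ⟨⟨d, hdL⟩, hS (mem_zpowers _), rfl⟩ hda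
    obtain ⟨e', he'S, rfl⟩ := heT
    obtain ⟨g, hg, hga⟩ := hmove
    have hd' : IsConj z (g * d * g⁻¹) := hd.trans (isConj_iff.2 ⟨g, rfl⟩)
    have hb : (g * d * g⁻¹) • (g • a) = g • a := by
      rw [smul_smul, inv_mul_cancel_right, mul_smul, hda]
    have hconj : ∀ f : L, IsConj z (f : G) → (f : G) • a = a →
        IsConj f (⟨g * d * g⁻¹, mul_mem (mul_mem hg hdL) (inv_mem hg)⟩ : L) := fun f hf hfa =>
      Invol.isConj_of_odd (by rw [← orderOf_coe]; exact h.crit.orderOf_conj hf)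
        (by rw [orderOf_mk]; exact h.crit.orderOf_conj hd')
        (by rw [← orderOf_coe]; exact h.crit.odd_mul hf hd' hfa hb hga.symm)
    have hde : IsConj (⟨d, hdL⟩ : L) e' := (hconj ⟨d, hdL⟩ hd hda).trans (hconj e' he hea).symm
    have e1 : Nat.card {y : L // IsConj e' y} = Nat.card {y : L // IsConj (⟨d, hdL⟩ : L) y} :=
      Nat.card_congr (Equiv.subtypeEquivRight fun y => ⟨fun hy => hde.trans hy, fun hy => hde.symm.trans hy⟩)
    rw [← card_isConj_eq_index, ← e1, card_isConj_eq_index]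
    exact odd_index_of_sylow_le S fun s hs => mem_centralizer_singleton_iff.2
      (Subtype.ext (hce _ ⟨s, hs, rfl⟩).eq)
  · intro g hc hne c hcm
    refine mem_subgroupOf.2 (hca.prod g (congrArg Subtype.val hc.eq) (fun e1 => hne (Subtype.ext e1)) ?_)
    exact mem_centralizer_singleton_iff.2 (congrArg Subtype.val (mem_centralizer_singleton_iff.1 hcm))

end Setup

end CfsgLib.SECrit
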