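import Cfsg.Agent.Lib.Invol.SECriterion.Sub.Stage1
import Cfsg.Agent.Lib.Invol.SECriterion.SameClass
import Cfsg.Agent.Lib.Invol.RetractTransfer

/-!
# The strong embedding criterion: a bad involution inverts a normal `p`-subgroup moving every point

Such a subgroup is semiregular, so every bad involution with a commuting pair in its centraliser inverts
it; the products of such an involution with the conjugates of `z` centralising it are of the same kind,
so the conjugates of `z` at the point centralise the subgroup.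
-/

set_option autoImplicit false
set_option linter.style.haveILetI false

namespace CfsgLib.SECrit

open CfsgLib.Invol Subgroup

universe u

variable {G : Type u} [Group G] [Finite G] {M : Subgroup G} {z : G}

namespace Setup

variable (h : Setup M z)
include h

/-- An element centralising a bad involution `y` and a point fixed by it, in a subgroup normalised by
the stabilizer of that point, fixes a second point if a commuting pair centralises `y`. -/
theorem exists_second_fix {y : G} (hy : IsBad M y) {d e : G} (hd : IsConj z d) (he : IsConj z e)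
    (hyd : Commute y d) (hye : Commute y e) (hde : Commute d e) (hne : d ≠ e) {a : G ⧸ M}
    (hya : y • a = a) {A : Subgroup G} (hAa : ∀ x ∈ A, x • a = a) (hAodd : Odd (Nat.card A))
    (hAn : ∀ g : G, g • a = a → g ∈ normalizer (A : Set G)) :
    ∃ c : G ⧸ M, c ≠ a ∧ ∀ w ∈ A, Commute w y → w • c = c := by
  obtain ⟨hyo, p, q, hpq, hyp, hyq⟩ := hy
  set L := centralizer ({y} : Set G) with hL
  have hLne : L ≠ ⊤ := by
    intro e1
    obtain ⟨o, ho⟩ := h.hfree y hyo
    obtain ⟨f, hf, hfa⟩ := h.crit.exists_fixing (o : G ⧸ M)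
    have hc : Commute y f := (mem_centralizer_singleton_iff.1 (e1 ▸ mem_top f : f ∈ L)).symm
    exact ho (h.crit.smul_of_commute hf hc hfa)
  obtain ⟨d', hd', hd'a, hyd'⟩ := h.crit.exists_commuting_invol hyo hya
  obtain ⟨u, hu, hud⟩ := h.crit.exists_conj_commuting (Crit.isPGroup_zpowers_invol hyo) hpq
    (Crit.forall_zpowers_fix hyp) (Crit.forall_zpowers_fix hyq) hd hd' (forall_zpowers_commute hyd)
    (forall_zpowers_commute hyd')
  have huy : Commute y u := hu y (mem_zpowers y)
  set e' := u * e * u⁻¹ with he'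
  have he'c : IsConj z e' := he.trans (isConj_iff.2 ⟨u, rfl⟩)
  have hye' : Commute y e' := (huy.mul_right hye).mul_right huy.inv_right
  have hde' : Commute d' e' := by rw [← hud, he']; exact (Commute.conj_iff u).2 hde
  have hne' : d' ≠ e' := by
    rw [← hud, he']
    exact fun e1 => hne (mul_left_cancel (mul_right_cancel e1))
  obtain ⟨c, hca, hyc⟩ : ∃ c : G ⧸ M, c ≠ a ∧ y • c = c := by
    by_cases hpa : p = a
    · exact ⟨q, fun hh => hpq (hpa.trans hh.symm), hyq⟩
    · exact ⟨p, hpa, hyp⟩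
  obtain ⟨f, hf, hfc, hyf⟩ := h.crit.exists_commuting_invol hyo hyc
  obtain ⟨v, hv, hvf⟩ := h.crit.exists_conj_commuting (Crit.isPGroup_zpowers_invol hyo) hpq
    (Crit.forall_zpowers_fix hyp) (Crit.forall_zpowers_fix hyq) hd' hf (forall_zpowers_commute hyd')
    (forall_zpowers_commute hyf)
  have hva : v • a = c := h.crit.smul_eq_of_conj hf hvf hd'a hfc
  have hmemL : ∀ g : G, Commute y g → g ∈ L := fun g hg => mem_centralizer_singleton_iff.2 hg.symm
  refine ⟨c, hca, fun w hw hwy => ?_⟩
  rw [← hva]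
  exact h.fix_orbit hLne hd' he'c (hmemL _ hyd') (hmemL _ hye') hd'a hde' hne'
    ⟨v, hmemL v (hv y (mem_zpowers y)), by rw [hva]; exact hca⟩ (W := A ⊓ L) inf_le_right
    (fun x hx => hAa x hx.1) (hAodd.of_dvd_nat (card_dvd_of_le inf_le_left))
    (fun l hl hla => mem_normalizer_inf' (hAn l hla) (le_normalizer hl)) (hmemL v (hv y (mem_zpowers y)))
    ⟨hw, hmemL w hwy.symm⟩

/-- **A normal `p`-subgroup moving every other point is inverted by the bad involutions** with a
commuting pair in their centraliser. -/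
theorem inverted_of_moving (hpair : ∃ d e : G, IsConj z d ∧ IsConj z e ∧ Commute d e ∧ d ≠ e)
    {p : ℕ} [hp : Fact p.Prime] (hp2 : p ≠ 2) {a : G ⧸ M} {A : Subgroup G} (hAp : IsPGroup p A)
    (hAa : ∀ x ∈ A, x • a = a) (hAn : ∀ g : G, g • a = a → g ∈ normalizer (A : Set G))
    (hmove : ∀ c : G ⧸ M, c ≠ a → ∃ y ∈ A, y • c ≠ c) {y : G} (hy : IsBad M y) (hya : y • a = a)
    {d e : G} (hd : IsConj z d) (he : IsConj z e) (hyd : Commute y d) (hye : Commute y e)
    (hde : Commute d e) (hne : d ≠ e) : ∀ w ∈ A, y * w * y⁻¹ = w⁻¹ := by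
  have hodd := CfsgLib.Bender.odd_card_of_isPGroup hp2 hAp
  obtain ⟨c, hca, hc⟩ := h.exists_second_fix hy hd he hyd hye hde hne hya hAa hodd hAn
  refine inverts_of_fixedPointFree hy.1 (fun w hw => (mem_normalizer_iff.1 (hAn y hya) w).1 hw) ?_
  intro w hw hfix
  exact h.semiregular hpair hp2 hAp hAa hAn hmove w hw c hca
    (hc w hw (show w * y = y * w from (mul_inv_eq_iff_eq_mul.1 hfix).symm))

/-- **The conjugates of `z` at a point centralise every normal `p`-subgroup of its stabilizer moving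
every other point**, if some bad involution centralises a commuting pair. -/
theorem centralizes_of_moving {p : ℕ} [hp : Fact p.Prime] (hp2 : p ≠ 2) {a : G ⧸ M} {A : Subgroup G}
    (hAp : IsPGroup p A) (hAa : ∀ x ∈ A, x • a = a)
    (hAn : ∀ g : G, g • a = a → g ∈ normalizer (A : Set G))
    (hmove : ∀ c : G ⧸ M, c ≠ a → ∃ y ∈ A, y • c ≠ c) {x : G} (hx : IsBad M x) {d e : G}
    (hd : IsConj z d) (he : IsConj z e) (hxd : Commute x d) (hxe : Commute x e) (hde : Commute d e)
    (hne : d ≠ e) {c : G} (hc : IsConj z c) (hca : c • a = a) : ∀ w ∈ A, Commute c w := by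
  have hpair : ∃ d e : G, IsConj z d ∧ IsConj z e ∧ Commute d e ∧ d ≠ e := ⟨d, e, hd, he, hde, hne⟩
  -- move `x` to a bad involution fixing `a`
  obtain ⟨hxo, p₀, q₀, hpq, hxp, hxq⟩ := hx
  obtain ⟨g, hg⟩ := MulAction.exists_smul_eq G p₀ a
  set y := g * x * g⁻¹ with hy
  have hcj : ∀ k : G, IsConj z k → IsConj z (g * k * g⁻¹) := fun k hk => hk.trans (isConj_iff.2 ⟨g, rfl⟩)
  have hyo : orderOf y = 2 := by rw [hy, ← MulAut.conj_apply]; exact (MulEquiv.orderOf_eq _ x).trans hxo
  have hfix : ∀ r : G ⧸ M, x • r = r → y • (g • r) = g • r := fun r hr => by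
    rw [hy, smul_smul, inv_mul_cancel_right, mul_smul, hr]
  have hya : y • a = a := hg ▸ hfix p₀ hxp
  have hyb : y • (g • q₀) = g • q₀ := hfix q₀ hxq
  have hab : a ≠ g • q₀ := fun e1 => hpq (smul_left_cancel g (hg.trans e1))
  have hyd : Commute y (g * d * g⁻¹) := (Commute.conj_iff g).2 hxd
  have hye : Commute y (g * e * g⁻¹) := (Commute.conj_iff g).2 hxe
  have hde' : Commute (g * d * g⁻¹) (g * e * g⁻¹) := (Commute.conj_iff g).2 hde
  have hne' : g * d * g⁻¹ ≠ g * e * g⁻¹ := fun e1 => hne (mul_left_cancel (mul_right_cancel e1))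
  obtain ⟨d', hd', hd'a, hyd'⟩ := h.crit.exists_commuting_invol hyo hya
  -- the product with the conjugate at `a` is again such an involution
  obtain ⟨k, hk⟩ := isConj_iff.1 (h.crit.isConj_mul_member h.hfree hyo hab hya hyb (hcj d hd) (hcj e he)
    hyd hye hde' hne' hd' hyd')
  have hy'o : orderOf (y * d') = 2 := by
    rw [← hk, ← MulAut.conj_apply]; exact (MulEquiv.orderOf_eq _ y).trans hyo
  have hy'bad : IsBad M (y * d') := ⟨hy'o, k • a, k • (g • q₀), fun e1 => hab (smul_left_cancel k e1),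
    by rw [← hk, smul_smul, inv_mul_cancel_right, mul_smul, hya],
    by rw [← hk, smul_smul, inv_mul_cancel_right, mul_smul, hyb]⟩
  have hy'a : (y * d') • a = a := by rw [mul_smul, hd'a, hya]
  have hck : ∀ r : G, IsConj z r → IsConj z (k * r * k⁻¹) := fun r hr => hr.trans (isConj_iff.2 ⟨k, rfl⟩)
  have hinv := h.inverted_of_moving hpair hp2 hAp hAa hAn hmove ⟨hyo, a, g • q₀, hab, hya, hyb⟩ hya
    (hcj d hd) (hcj e he) hyd hye hde' hne'
  have hinv' := h.inverted_of_moving hpair hp2 hAp hAa hAn hmove hy'bad hy'a (hck _ (hcj d hd))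
    (hck _ (hcj e he)) (hk ▸ (Commute.conj_iff k).2 hyd) (hk ▸ (Commute.conj_iff k).2 hye)
    ((Commute.conj_iff k).2 hde') (fun e1 => hne' (mul_left_cancel (mul_right_cancel e1)))
  have hd'c : ∀ w ∈ A, Commute d' w := fun w hw => by
    have hdw : d' * w * d'⁻¹ = w := by
      have h1 : y * (d' * w * d'⁻¹) * y⁻¹ = y * w * y⁻¹ := by
        rw [hinv w hw, ← hinv' w hw]; group
      exact mul_left_cancel (mul_right_cancel h1)
    exact mul_inv_eq_iff_eq_mul.1 hdw
  -- all conjugates at `a` are conjugate under the stabilizer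
  obtain ⟨m, hma, -, hmc⟩ := h.crit.exists_pair_conj hab hd' hd'a hc hca
  intro w hw
  obtain ⟨w', hw', rfl⟩ : ∃ w' ∈ A, m * w' * m⁻¹ = w :=
    ⟨m⁻¹ * w * m, by simpa using (mem_normalizer_iff.1 (hAn _ (inv_smul_eq_iff.2 hma.symm)) w).1 hw,
      by group⟩
  rw [← hmc]
  exact (Commute.conj_iff m).2 (hd'c w' hw')

end Setup

end CfsgLib.SECrit
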