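import Cfsg.Agent.Lib.Invol.SECriterion.Sub.Crit
import Cfsg.Agent.Lib.Bender.Full.Main
import Cfsg.Agent.Lib.Bender.Full.Basic

/-!
# The strong embedding criterion: odd subgroups of a point stabilizer in a proper subgroup

In a core-free situation where every involution of the normal closure is a conjugate of `z`, with two
commuting conjugates, the conjugates in `M` commute, no element of odd order of `M` is inverted by one
of them and `M` has no normal subgroup of odd order.  In a proper subgroup with a commuting pair at a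
moved point this says that such elements and subgroups fix the orbit.
-/

set_option autoImplicit false
set_option linter.style.haveILetI false

namespace CfsgLib.SECrit

open CfsgLib.Invol Subgroup

universe u

variable {G : Type u} [Group G] [Finite G] {M : Subgroup G} {z : G}

/-- The core-free situation after the induction. -/
structure Quot (M : Subgroup G) (z : G) : Prop where
  crit : Crit M z
  ne_top : M ≠ ⊤
  core : M.normalCore = ⊥
  concl : Concl M z
  pair : ∃ d e : G, IsConj z d ∧ IsConj z e ∧ d ≠ e ∧ Commute d e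

namespace Quot

variable (h : Quot M z)
include h

omit [Finite G] in
theorem conj_mem_normalClosure {d : G} (hd : IsConj z d) : d ∈ normalClosure ({z} : Set G) := by
  obtain ⟨k, rfl⟩ := isConj_iff.1 hd
  exact normalClosure_normal.conj_mem _ (subset_normalClosure (Set.mem_singleton z)) k

/-- The normal closure is transitive on the cosets. -/
theorem exists_mul_eq {g : G} : ∃ x ∈ normalClosure ({z} : Set G), ∃ m ∈ M, g = x * m := by
  by_cases hg : g ∈ M
  · exact ⟨1, one_mem _, g, hg, (one_mul g).symm⟩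
  set X := normalClosure ({z} : Set G)
  have hd' : IsConj z (g * z * g⁻¹) := isConj_iff.2 ⟨g, rfl⟩
  have hz1 : z • ((1 : G) : G ⧸ M) = ((1 : G) : G ⧸ M) := by
    rw [smul_coe_eq_iff]; simpa using h.crit.mem
  have hne : ((1 : G) : G ⧸ M) ≠ (g : G ⧸ M) := fun e => hg (by simpa [QuotientGroup.eq] using e)
  have hodd := h.crit.odd_mul (IsConj.refl z) hd' hz1 (h.crit.fix_coe g) hne
  obtain ⟨x, hx⟩ := isConj_iff.1 (Invol.isConj_of_odd
    (x := (⟨z, h.conj_mem_normalClosure (IsConj.refl z)⟩ : X)) (y := ⟨_, h.conj_mem_normalClosure hd'⟩)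
    (by rw [orderOf_mk]; exact h.crit.invol) (by rw [orderOf_mk]; exact h.crit.orderOf_conj hd')
    (by rw [← orderOf_coe]; exact hodd))
  refine ⟨x, x.2, (x : G)⁻¹ * g, h.crit.fuse _ ?_, by group⟩
  have hx' : (x : G) * z * (x : G)⁻¹ = g * z * g⁻¹ := congrArg Subtype.val hx
  have e : (x : G)⁻¹ * g * z * ((x : G)⁻¹ * g)⁻¹ = z := by
    calc (x : G)⁻¹ * g * z * ((x : G)⁻¹ * g)⁻¹ = (x : G)⁻¹ * (g * z * g⁻¹) * x := by group
      _ = z := by rw [← hx']; group
  rw [e]; exact h.crit.mem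

/-- The two-group: it contains the two-elements of the normal closure in `M` and is regular. -/
theorem exists_regular : ∃ Q : Subgroup G, Q ≤ M ∧ IsPGroup 2 Q ∧ Q ≤ normalClosure ({z} : Set G) ∧
    (∀ c ∈ normalClosure ({z} : Set G), c ∈ M → (∃ k : ℕ, c ^ 2 ^ k = 1) → c ∈ Q) ∧
    ∀ g k : G, g ∈ normalClosure ({z} : Set G) → k ∈ normalClosure ({z} : Set G) → g ∉ M → k ∉ M →
      ∃! y, y ∈ Q ∧ k⁻¹ * (y * g) ∈ M := by
  haveI : Fact (Nat.Prime 2) := ⟨Nat.prime_two⟩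
  set X := normalClosure ({z} : Set G) with hX
  set H := M.subgroupOf X with hH
  have hzX : z ∈ X := h.conj_mem_normalClosure (IsConj.refl z)
  obtain ⟨g₀, hg₀⟩ : ∃ g : G, g ∉ M := by
    by_contra hh; push Not at hh; exact h.ne_top (eq_top_iff.2 fun g _ => hh g)
  have hproper : H ≠ ⊤ := fun e => by
    have : (⟨_, h.conj_mem_normalClosure (isConj_iff.2 ⟨g₀, rfl⟩)⟩ : X) ∈ H := e ▸ mem_top _
    exact hg₀ (h.crit.fuse g₀ this)
  have hse : Cfsg.IsStronglyEmbedded H := by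
    refine (stronglyEmbedded_iff hproper ?_).2 ?_
    · refine even_iff_two_dvd.2 ?_
      have h1 : orderOf (⟨⟨z, hzX⟩, h.crit.mem⟩ : H) ∣ Nat.card H := orderOf_dvd_natCard _
      rwa [← orderOf_coe, ← orderOf_coe, show (((⟨⟨z, hzX⟩, h.crit.mem⟩ : H) : X) : G) = z from rfl,
        h.crit.invol] at h1
    · intro t ht hto g hg
      obtain ⟨k, hk⟩ := isConj_iff.1 (h.concl t t.2 (by rw [orderOf_coe]; exact hto))
      have hkM : k ∈ M := h.crit.fuse k (by rw [hk]; exact ht)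
      have h2 : (g : G) * k ∈ M := h.crit.fuse _ (by
        have e : (g : G) * k * z * ((g : G) * k)⁻¹ = (g : G) * (k * z * k⁻¹) * (g : G)⁻¹ := by group
        rw [e, hk]; exact hg)
      exact mem_subgroupOf.2 ((mul_mem_cancel_right hkM).1 h2)
  have hcore : H.normalCore = ⊥ := by
    rw [eq_bot_iff]
    intro c hc
    refine mem_bot.2 (Subtype.ext ?_)
    have h1 : (c : G) ∈ M.normalCore := fun g => by
      obtain ⟨x, hx, m, hm, rfl⟩ := h.exists_mul_eq (g := g)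
      have hx' : m⁻¹ * x * m ∈ X := by
        simpa using normalClosure_normal.conj_mem _ hx m⁻¹
      have h2 : (m⁻¹ * x * m) * (c : G) * (m⁻¹ * x * m)⁻¹ ∈ M := hc ⟨_, hx'⟩
      have e : x * m * (c : G) * (x * m)⁻¹ = m * ((m⁻¹ * x * m) * (c : G) * (m⁻¹ * x * m)⁻¹) * m⁻¹ := by
        group
      rw [e]
      exact mul_mem (mul_mem hm h2) (inv_mem hm)
    rw [h.core, mem_bot] at h1
    exact h1
  have hpair : CfsgLib.Bender.HasPair X := by
    obtain ⟨d, e, hd, he, hne, hde⟩ := h.pair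
    exact ⟨⟨d, h.conj_mem_normalClosure hd⟩, ⟨e, h.conj_mem_normalClosure he⟩,
      by rw [orderOf_mk]; exact h.crit.orderOf_conj hd, by rw [orderOf_mk]; exact h.crit.orderOf_conj he,
      fun e1 => hne (congrArg Subtype.val e1), Subtype.ext hde.eq⟩
  obtain ⟨Q, hQH, hnorm, hQ2, hreg⟩ := CfsgLib.Bender.Full.fullStatement _ _ hse hcore hpair
  refine ⟨Q.map X.subtype, ?_, hQ2.map _, map_subtype_le Q, ?_, ?_⟩
  · rintro _ ⟨y, hy, rfl⟩; exact hQH hy
  · intro c hcX hcM ⟨k, hk⟩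
    set cc : X := ⟨c, hcX⟩ with hcc
    have hcH : cc ∈ H := hcM
    set g : X := ⟨_, h.conj_mem_normalClosure (isConj_iff.2 ⟨g₀, rfl⟩)⟩ with hg
    have hgH : g ∉ H := fun e1 => hg₀ (h.crit.fuse g₀ e1)
    have hcg : cc * g ∉ H := fun e1 => hgH ((mul_mem_cancel_left hcH).1 e1)
    obtain ⟨y, ⟨hy, hyH⟩, -⟩ := hreg g (cc * g) hgH hcg
    have hR : IsPGroup 2 (zpowers cc ⊔ Q : Subgroup X) := by
      refine IsPGroup.to_sup_of_normal_right' ?_ hQ2 ((zpowers_le.2 hcH).trans hnorm)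
      rintro ⟨_, i, rfl⟩
      refine ⟨k, Subtype.ext ?_⟩
      show (cc ^ i) ^ (2 ^ k) = 1
      rw [← zpow_natCast, zpow_comm, zpow_natCast, show cc ^ (2 ^ k) = 1 from Subtype.ext (by simpa [hcc] using hk),
        one_zpow]
    have hwR : cc⁻¹ * y ∈ (zpowers cc ⊔ Q : Subgroup X) :=
      mul_mem (inv_mem (mem_sup_left (mem_zpowers _))) (mem_sup_right hy)
    have hwH : cc⁻¹ * y ∈ H := mul_mem (inv_mem hcH) (hQH hy)
    have hwg : g⁻¹ * (cc⁻¹ * y) * g ∈ H := by simpa [mul_assoc] using hyH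
    by_cases hw1 : cc⁻¹ * y = 1
    · exact ⟨cc, (inv_mul_eq_one.1 hw1) ▸ hy, rfl⟩
    exfalso
    obtain ⟨n, hn⟩ : ∃ n, orderOf (cc⁻¹ * y) = 2 ^ n := by
      obtain ⟨n, hn⟩ := hR ⟨_, hwR⟩
      obtain ⟨i, -, hi⟩ := (Nat.dvd_prime_pow Nat.prime_two).1
        (orderOf_dvd_of_pow_eq_one (congrArg Subtype.val hn :))
      exact ⟨i, hi⟩
    obtain ⟨n, rfl⟩ : ∃ m, n = m + 1 := by
      rcases n with - | m
      · exact absurd (orderOf_eq_one_iff.1 (hn.trans (pow_zero 2))) hw1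
      · exact ⟨m, rfl⟩
    set s := (cc⁻¹ * y) ^ (2 ^ n) with hs
    have hso : orderOf s = 2 := by
      rw [hs, orderOf_pow' _ (pow_ne_zero _ two_ne_zero), hn, pow_succ,
        Nat.gcd_eq_right (dvd_mul_right _ _), Nat.mul_div_cancel_left _ (pow_pos two_pos _)]
    have hsg : g⁻¹ * s * g⁻¹⁻¹ ∈ H := by
      rw [hs, ← conj_pow, inv_inv]; exact pow_mem hwg _
    exact hgH (by simpa using inv_mem (mem_of_conj_mem hse (pow_mem hwH _) hso hsg))
  · intro g k hg hk hgM hkM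
    obtain ⟨y, ⟨hy, hyH⟩, huniq⟩ := hreg ⟨g, hg⟩ ⟨k, hk⟩ hgM hkM
    refine ⟨(y : G), ⟨⟨y, hy, rfl⟩, hyH⟩, ?_⟩
    rintro _ ⟨⟨y', hy', rfl⟩, hy'H⟩
    exact congrArg Subtype.val (huniq y' ⟨hy', hy'H⟩)

/-- The conjugates of `z` in `M` commute. -/
theorem commute_of_mem {d e : G} (hd : IsConj z d) (he : IsConj z e) (hdM : d ∈ M) (heM : e ∈ M) :
    Commute d e := by
  haveI : Fact (Nat.Prime 2) := ⟨Nat.prime_two⟩
  obtain ⟨Q, hQM, hQ2, hQX, hmax, -⟩ := h.exists_regular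
  have hin : ∀ f : G, IsConj z f → f ∈ M → f ∈ Q := fun f hf hfM => hmax f (h.conj_mem_normalClosure hf) hfM
    ⟨1, by rw [pow_one, pow_two, invol_mul_self (h.crit.orderOf_conj hf)]⟩
  haveI : Nontrivial Q := ⟨⟨z, hin z (IsConj.refl z) h.crit.mem⟩, 1, fun e1 =>
    invol_ne_one h.crit.invol (congrArg Subtype.val e1)⟩
  haveI := hQ2.center_nontrivial
  obtain ⟨⟨⟨s, hsQ⟩, hsc⟩, hso⟩ := exists_prime_orderOf_dvd_card' (G := center Q) 2 (by
    obtain ⟨m, hm⟩ := ((hQ2.to_subgroup (center Q)).nontrivial_iff_card).1 inferInstance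
    rw [hm.2]; exact dvd_pow_self 2 (by omega))
  rw [← orderOf_coe, ← orderOf_coe] at hso
  obtain ⟨k, hk⟩ := isConj_iff.1 (h.concl s (hQX hsQ) hso)
  have hkM : k ∈ M := h.crit.fuse k (by rw [hk]; exact hQM hsQ)
  obtain ⟨g, hg⟩ := isConj_iff.1 hd
  have hgM : g ∈ M := h.crit.fuse g (by rw [hg]; exact hdM)
  set a := g * k⁻¹ with ha
  have haM : a ∈ M := mul_mem hgM (inv_mem hkM)
  have had : d = a * s * a⁻¹ := by rw [← hg, ← hk, ha]; group
  set e' := a⁻¹ * e * a⁻¹⁻¹ with he'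
  have h1 : Commute s e' := by
    have := mem_center_iff.1 hsc ⟨e', hin e' (he.trans (isConj_iff.2 ⟨a⁻¹, rfl⟩))
      (mul_mem (mul_mem (inv_mem haM) heM) (inv_mem (inv_mem haM)))⟩
    exact (congrArg Subtype.val this).symm
  have h2 := h1.map (MulAut.conj a).toMonoidHom
  simp only [MulEquiv.coe_toMonoidHom, MulAut.conj_apply] at h2
  rw [← had, he'] at h2
  convert h2 using 1
  group

/-- An element of odd order of `M` inverted by a conjugate of `z` in `M` is trivial. -/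
theorem eq_one_of_inverted {d w : G} (hd : IsConj z d) (hdM : d ∈ M) (hwM : w ∈ M) (hw : Odd (orderOf w))
    (hinv : d * w * d⁻¹ = w⁻¹) : w = 1 := by
  have hdo := h.crit.orderOf_conj hd
  have hf : IsConj z (w * d * w⁻¹) := hd.trans (isConj_iff.2 ⟨w, rfl⟩)
  have hc := h.commute_of_mem hf hd (mul_mem (mul_mem hwM hdM) (inv_mem hwM)) hdM
  have e1 : w * d * w⁻¹ * d = w * w := by
    calc w * d * w⁻¹ * d = w * (d * w * d⁻¹)⁻¹ := by rw [invol_inv hdo, mul_inv_rev, mul_inv_rev, invol_inv hdo]; group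
      _ = w * w := by rw [hinv, inv_inv]
  have h2 : (w * d * w⁻¹ * d) ^ 2 = 1 := by
    rw [hc.mul_pow, pow_two, pow_two, invol_mul_self (h.crit.orderOf_conj hf), invol_mul_self hdo, one_mul]
  rw [e1, ← pow_two, ← pow_mul] at h2
  exact eq_one_of_odd_of_pow_two (k := 2) hw (by simpa using h2)

/-- `M` has no normal subgroup of odd order. -/
theorem eq_bot_of_odd_normal {W : Subgroup G} (hWM : W ≤ M) (hWodd : Odd (Nat.card W))
    (hMW : M ≤ normalizer (W : Set G)) : W = ⊥ := by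
  obtain ⟨Q, hQM, hQ2, hQX, hmax, hreg⟩ := h.exists_regular
  set X := normalClosure ({z} : Set G)
  rw [eq_bot_iff]
  intro w hw
  have hwM := hWM hw
  have hwodd : Odd (orderOf w) := hWodd.of_dvd_nat (Subgroup.orderOf_dvd_natCard W hw)
  have htwo : ∀ q ∈ Q, ∃ k : ℕ, q ^ 2 ^ k = 1 := fun q hq => by
    obtain ⟨k, hk⟩ := hQ2 ⟨q, hq⟩
    exact ⟨k, congrArg Subtype.val hk⟩
  have hcom : ∀ q ∈ Q, Commute w q := by
    intro q hq
    have h1 : w * q * w⁻¹ ∈ Q := by
      obtain ⟨k, hk⟩ := htwo q hq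
      refine hmax _ (normalClosure_normal.conj_mem _ (hQX hq) w)
        (mul_mem (mul_mem hwM (hQM hq)) (inv_mem hwM)) ⟨k, ?_⟩
      rw [conj_pow, hk, mul_one, mul_inv_cancel]
    have h2 : q * w⁻¹ * q⁻¹ ∈ W := (mem_normalizer_iff.1 (hMW (hQM hq)) _).1 (inv_mem hw)
    obtain ⟨k, hk⟩ := htwo _ (mul_mem h1 (inv_mem hq))
    have hW : w * q * w⁻¹ * q⁻¹ ∈ W := by
      rw [show w * q * w⁻¹ * q⁻¹ = w * (q * w⁻¹ * q⁻¹) by group]; exact mul_mem hw h2
    have h3 := eq_one_of_odd_of_pow_two (k := k) (hWodd.of_dvd_nat (Subgroup.orderOf_dvd_natCard W hW)) hk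
    exact mul_inv_eq_iff_eq_mul.1 (by simpa using mul_inv_eq_one.1 h3)
  rw [← h.core]
  intro g
  obtain ⟨x, hx, m, hm, hgx⟩ := h.exists_mul_eq (g := g⁻¹)
  have hg : g = m⁻¹ * x⁻¹ := by rw [← mul_inv_rev, ← hgx, inv_inv]
  suffices x⁻¹ * w * x ∈ M by
    rw [hg]
    have := mul_mem (mul_mem (inv_mem hm) this) hm
    simpa [mul_assoc] using this
  by_cases hxM : x ∈ M
  · exact mul_mem (mul_mem (inv_mem hxM) hwM) hxM
  have hwx : w * x * w⁻¹ ∈ X := normalClosure_normal.conj_mem _ hx w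
  have hwxM : w * x * w⁻¹ ∉ M := fun e1 => hxM (by
    have := mul_mem (mul_mem (inv_mem hwM) e1) hwM
    simpa [mul_assoc] using this)
  obtain ⟨y, ⟨hy, hyM⟩, -⟩ := hreg x (w * x * w⁻¹) hx hwx hxM hwxM
  have hpow : ∀ n : ℕ, (y ^ n * x)⁻¹ * (w ^ n * x) ∈ M := by
    intro n
    induction n with
    | zero => simp [one_mem]
    | succ n ih =>
      have h1 : (y * x)⁻¹ * (w * x) ∈ M := by
        have := mul_mem (inv_mem hyM) hwM
        simpa [mul_assoc] using this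
      have hc : Commute w (y ^ n) := (hcom y hy).pow_right n
      have e : (y ^ (n + 1) * x)⁻¹ * (w ^ (n + 1) * x) =
          ((y * x)⁻¹ * (w * x)) * ((y ^ n * x)⁻¹ * (w ^ n * x)) := by
        calc (y ^ (n + 1) * x)⁻¹ * (w ^ (n + 1) * x)
            = (y * x)⁻¹ * ((y ^ n)⁻¹ * w) * (w ^ n * x) := by rw [pow_succ, pow_succ']; group
          _ = (y * x)⁻¹ * (w * (y ^ n)⁻¹) * (w ^ n * x) := by rw [hc.inv_right.eq]
          _ = _ := by group
      rw [e]; exact mul_mem h1 ih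
  have h1 := hpow (orderOf w)
  rw [pow_orderOf_eq_one, one_mul] at h1
  obtain ⟨k, hk⟩ := htwo y hy
  have h2 : y ^ orderOf w = 1 := by
    obtain ⟨y', -, huniq⟩ := hreg x x hx hx hxM hxM
    refine (huniq _ ⟨pow_mem hy _, ?_⟩).trans (huniq 1 ⟨one_mem Q, by simp [one_mem]⟩).symm
    have := inv_mem h1
    simpa [mul_assoc] using this
  have hy1 : y = 1 := by
    refine orderOf_eq_one_iff.1 ?_
    have hcop : Nat.Coprime (2 ^ k) (orderOf w) := (Nat.coprime_two_left.2 hwodd).pow_left k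
    exact Nat.dvd_one.1 (hcop ▸ Nat.dvd_gcd (orderOf_dvd_of_pow_eq_one hk) (orderOf_dvd_of_pow_eq_one h2))
  have h4 := hpow 1
  rw [hy1, pow_one, pow_one, one_mul] at h4
  simpa [mul_assoc] using h4

end Quot

namespace Setup

variable (h : Setup M z) {L : Subgroup G} (hL : L ≠ ⊤) {d e : G} (hd : IsConj z d) (he : IsConj z e)
  (hdL : d ∈ L) (heL : e ∈ L) {a : G ⧸ M} (hda : d • a = a) (hde : Commute d e) (hne : d ≠ e)
  (hmove : ∃ g ∈ L, g • a ≠ a)
include h hL hd he hdL heL hda hde hne hmove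

/-- The quotient of `L` by the kernel of its action on the orbit of `a`. -/
theorem sub_quot : Quot ((((MulAction.stabilizer G a).subgroupOf L)).map
      (QuotientGroup.mk' (((MulAction.stabilizer G a).subgroupOf L)).normalCore))
    (QuotientGroup.mk' (((MulAction.stabilizer G a).subgroupOf L)).normalCore ⟨d, hdL⟩) := by
  set H := (MulAction.stabilizer G a).subgroupOf L with hH
  have hc := h.sub_crit hd hdL hda hmove
  obtain ⟨g, hg, hga⟩ := hmove
  have hne' : H ≠ ⊤ := fun e1 => hga (show (⟨g, hg⟩ : L) ∈ H from e1 ▸ mem_top _)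
  obtain ⟨q1, q2, q3⟩ := hc.quotient hne'
  have hlt : Nat.card (L ⧸ H.normalCore) < Nat.card G :=
    lt_of_le_of_lt (Nat.card_le_card_of_surjective _ (QuotientGroup.mk'_surjective H.normalCore))
      (lt_of_le_of_ne L.card_le_card_group fun e1 => hL (L.eq_top_of_card_eq e1))
  set π := QuotientGroup.mk' H.normalCore with hπ
  refine ⟨q1, q2, q3, h.ih _ hlt _ _ q1 q2 q3, π ⟨d, hdL⟩, π ⟨e, heL⟩, IsConj.refl _,
    π.map_isConj ?_, fun e1 => ?_, (show Commute (⟨d, hdL⟩ : L) ⟨e, heL⟩ from Subtype.ext hde.eq).map π⟩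
  · have hea : e • a = a := h.crit.smul_of_commute hd hde.symm hda
    set f := g * d * g⁻¹ with hf
    have hfc : IsConj z f := hd.trans (isConj_iff.2 ⟨g, rfl⟩)
    have hfa : f • (g • a) = g • a := by rw [hf, smul_smul, inv_mul_cancel_right, mul_smul, hda]
    have key : ∀ c : L, IsConj z (c : G) → (c : G) • a = a →
        IsConj c (⟨f, mul_mem (mul_mem hg hdL) (inv_mem hg)⟩ : L) := fun c hc hca =>
      Invol.isConj_of_odd (by rw [← orderOf_coe]; exact h.crit.orderOf_conj hc)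
        (by rw [orderOf_mk]; exact h.crit.orderOf_conj hfc)
        (by rw [← orderOf_coe]; exact h.crit.odd_mul hc hfc hca hfa hga.symm)
    exact (key ⟨d, hdL⟩ hd hda).trans (key ⟨e, heL⟩ he hea).symm
  · have h1 : (⟨d, hdL⟩ : L)⁻¹ * ⟨e, heL⟩ ∈ H.normalCore := (QuotientGroup.eq).1 e1
    have h2 : ((⟨g, hg⟩ : L)⁻¹ * ((⟨d, hdL⟩ : L)⁻¹ * ⟨e, heL⟩) * (⟨g, hg⟩ : L)⁻¹⁻¹) ∈ H := h1 _
    rw [inv_inv] at h2
    have h3 : (g⁻¹ * ((d : G) * e) * g) • a = a := by
      simpa [hH, mem_subgroupOf, invol_inv (h.crit.orderOf_conj hd)] using h2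
    rw [mul_smul, mul_smul, inv_smul_eq_iff] at h3
    exact hga (h.crit.exists_mul_fix hd he hde hne hda h3)

/-- An odd subgroup of `L_a` normalized by `L_a` fixes the orbit of `a`. -/
theorem fix_orbit {W : Subgroup G} (hWL : W ≤ L) (hWa : ∀ w ∈ W, w • a = a) (hWodd : Odd (Nat.card W))
    (hWn : ∀ l ∈ L, l • a = a → l ∈ normalizer (W : Set G)) {g : G} (hg : g ∈ L) {w : G} (hw : w ∈ W) :
    w • (g • a) = g • a := by
  have hq := h.sub_quot hL hd he hdL heL hda hde hne hmove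
  set H := (MulAction.stabilizer G a).subgroupOf L with hH
  set π := QuotientGroup.mk' H.normalCore with hπ
  have hbot : (W.subgroupOf L).map π = ⊥ := by
    refine hq.eq_bot_of_odd_normal (map_mono fun c hc => hWa _ hc) ?_ ?_
    · refine hWodd.of_dvd_nat ((card_map_dvd _ π).trans ?_)
      rw [Nat.card_congr (subgroupOfEquivOfLe hWL).toEquiv]
    · rintro _ ⟨m, hm, rfl⟩
      exact le_normalizer_map π ⟨m, mem_normalizer_iff.2 fun c => by
        simpa [mem_subgroupOf] using mem_normalizer_iff.1 (hWn m m.2 hm) (c : G), rfl⟩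
  have h1 : π ⟨w, hWL hw⟩ = 1 :=
    mem_bot.1 (hbot ▸ mem_map_of_mem π (show (⟨w, hWL hw⟩ : L) ∈ W.subgroupOf L from hw))
  have h2 : (⟨w, hWL hw⟩ : L) ∈ H.normalCore := (QuotientGroup.eq_one_iff _).1 h1
  have h3 : (g⁻¹ * w * g⁻¹⁻¹) • a = a := h2 (⟨g, hg⟩⁻¹ : L)
  rw [inv_inv, mul_smul, mul_smul, inv_smul_eq_iff] at h3
  exact h3

/-- An element of odd order of `L_a` inverted by a conjugate of `z` in `L` at `a` fixes the orbit. -/
theorem fix_orbit_of_inverted {v w : G} (hv : IsConj z v) (hvL : v ∈ L) (hva : v • a = a) (hwL : w ∈ L)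
    (hwa : w • a = a) (hw : Odd (orderOf w)) (hinv : v * w * v⁻¹ = w⁻¹) {g : G} (hg : g ∈ L) :
    w • (g • a) = g • a := by
  have hq := h.sub_quot hL hd he hdL heL hda hde hne hmove
  obtain ⟨g₁, hg₁, hg₁a⟩ := hmove
  set H := (MulAction.stabilizer G a).subgroupOf L with hH
  set π := QuotientGroup.mk' H.normalCore with hπ
  have hconj : IsConj (⟨d, hdL⟩ : L) ⟨v, hvL⟩ := by
    have hfc : IsConj z (g₁ * d * g₁⁻¹) := hd.trans (isConj_iff.2 ⟨g₁, rfl⟩)
    have hfa : (g₁ * d * g₁⁻¹) • (g₁ • a) = g₁ • a := by rw [smul_smul, inv_mul_cancel_right, mul_smul, hda]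
    have key : ∀ c : L, IsConj z (c : G) → (c : G) • a = a →
        IsConj c (⟨_, mul_mem (mul_mem hg₁ hdL) (inv_mem hg₁)⟩ : L) := fun c hc hca =>
      Invol.isConj_of_odd (by rw [← orderOf_coe]; exact h.crit.orderOf_conj hc)
        (by rw [orderOf_mk]; exact h.crit.orderOf_conj hfc)
        (by rw [← orderOf_coe]; exact h.crit.odd_mul hc hfc hca hfa hg₁a.symm)
    exact (key ⟨d, hdL⟩ hd hda).trans (key ⟨v, hvL⟩ hv hva).symm
  have h1 : π ⟨w, hwL⟩ = 1 := by
    refine hq.eq_one_of_inverted (π.map_isConj hconj) (mem_map_of_mem π hva) (mem_map_of_mem π hwa)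
      (hw.of_dvd_nat ((orderOf_map_dvd π _).trans (by rw [orderOf_mk]))) ?_
    rw [← map_mul, ← map_inv, ← map_mul, ← map_inv]
    exact congrArg π (Subtype.ext hinv)
  have h2 : (⟨w, hwL⟩ : L) ∈ H.normalCore := (QuotientGroup.eq_one_iff _).1 h1
  have h3 : (g⁻¹ * w * g⁻¹⁻¹) • a = a := h2 (⟨g, hg⟩⁻¹ : L)
  rw [inv_inv, mul_smul, mul_smul, inv_smul_eq_iff] at h3
  exact h3

end Setup

end CfsgLib.SECrit
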