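import Cfsg.Agent.Lib.Invol.SECriterion.Sub.Orbit
import Cfsg.Agent.Lib.Bender.Good
import Cfsg.Agent.Lib.Coprime.Action
import Cfsg.Agent.Lib.ProdFusion.Basic

/-!
# The strong embedding criterion: normal `p`-subgroups of a point stabilizer

A normal `p`-subgroup of the stabilizer of a point which moves every other point meets no two point
stabilizer non-trivially, as in the first stage of the core theorem; good primes and two-transitivity
are not needed.
-/

set_option autoImplicit false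
set_option linter.style.haveILetI false

namespace CfsgLib.SECrit

open CfsgLib.Invol Subgroup
open CfsgLib.Coprime (IsSylowIn)

universe u

variable {G : Type u} [Group G] [Finite G] {M : Subgroup G} {z : G}

omit [Finite G] in
theorem mem_normalizer_inf' {A B : Subgroup G} {g : G} (hA : g ∈ normalizer (A : Set G))
    (hB : g ∈ normalizer (B : Set G)) : g ∈ normalizer ((A ⊓ B : Subgroup G) : Set G) :=
  mem_normalizer_iff.2 fun x => and_congr (mem_normalizer_iff.1 hA x) (mem_normalizer_iff.1 hB x)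

/-- An element of odd order of the stabilizer of a pair fixes both points. -/
theorem fix_of_odd_mem_pairStab {a b : G ⧸ M} {n : G} (hn : n ∈ pairStab a b) (ho : Odd (orderOf n)) :
    n • a = a ∧ n • b = b := by
  rcases hn with h1 | ⟨h1, h2⟩
  · exact h1
  · have hsq : (n ^ 2) • a = a := by rw [pow_two, mul_smul, h1, h2]
    obtain ⟨k, hk⟩ := ho
    have hab : b = a := by
      rw [← h1]
      have h3 : n ^ (2 * k) • a = a := by
        rw [pow_mul]
        exact MulAction.mem_stabilizer_iff.1 (pow_mem (MulAction.mem_stabilizer_iff.2 hsq) k)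
      calc n • a = n • n ^ (2 * k) • a := by rw [h3]
        _ = a := by rw [smul_smul, ← pow_succ', ← hk, pow_orderOf_eq_one, one_smul]
    exact ⟨h1.trans hab, h2.trans hab.symm⟩

namespace Crit

variable (h : Crit M z)
include h

/-- The stabilizer of two points is transitive on the conjugates of `z` at one of them. -/
theorem exists_pair_conj {a b : G ⧸ M} (hab : a ≠ b) {d d' : G} (hd : IsConj z d) (hda : d • a = a)
    (hd' : IsConj z d') (hd'a : d' • a = a) : ∃ k : G, k • a = a ∧ k • b = b ∧ k * d * k⁻¹ = d' := by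
  obtain ⟨e, he, heb⟩ := h.exists_fixing b
  obtain ⟨g, hg, hge⟩ := h.exists_midpoint hd he hda heb hab
  obtain ⟨g', hg', hge'⟩ := h.exists_midpoint hd' he hd'a heb hab
  have hga := h.smul_eq_of_conj he hge hda heb
  have hga' := h.smul_eq_of_conj he hge' hd'a heb
  have hgg := invol_mul_self (h.orderOf_conj hg')
  have hgb' : g' • b = a := by rw [← hga', smul_smul, hgg, one_smul]
  have hgb : g • b = a := by rw [← hga, smul_smul, invol_mul_self (h.orderOf_conj hg), one_smul]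
  refine ⟨g' * g, by rw [mul_smul, hga, hgb'], by rw [mul_smul, hgb, hga'], ?_⟩
  calc g' * g * d * (g' * g)⁻¹ = g' * (g * d * g⁻¹) * g'⁻¹ := by group
    _ = g' * (g' * d' * g'⁻¹) * g'⁻¹ := by rw [hge, hge']
    _ = (g' * g') * d' * (g' * g')⁻¹ := by group
    _ = d' := by rw [hgg]; group

/-- A Sylow subgroup for an odd prime of a two point stabilizer is normalized by a swap. -/
theorem exists_swap_normalizing {r : ℕ} [Fact r.Prime] (hr : r ≠ 2) {a b : G ⧸ M} (hab : a ≠ b)
    {P : Subgroup G} (hP : IsSylowIn r P (MulAction.stabilizer G a ⊓ MulAction.stabilizer G b)) :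
    ∃ u : G, IsConj z u ∧ u • a = b ∧ u ∈ normalizer (P : Set G) := by
  obtain ⟨d, hd, hda⟩ := h.exists_fixing a
  obtain ⟨e, he, heb⟩ := h.exists_fixing b
  obtain ⟨g, hg, hge⟩ := h.exists_midpoint hd he hda heb hab
  have hga := h.smul_eq_of_conj he hge hda heb
  have hgo := h.orderOf_conj hg
  have hgS : g ∈ pairStab a b := h.swap_mem_pairStab hg hga
  set O := CfsgLib.Bender.coreOf (pairStab a b) with hO
  have hPS : P ≤ pairStab a b := fun x hx =>
    mem_pairStab_of_fix (MulAction.mem_stabilizer_iff.1 (hP.1 hx).1)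
      (MulAction.mem_stabilizer_iff.1 (hP.1 hx).2)
  have hPO : P ≤ normalizer (O : Set G) := hPS.trans (CfsgLib.Bender.le_normalizer_coreOf _)
  have hOodd := CfsgLib.Bender.odd_coreOf (pairStab a b)
  set X1 := O ⊔ P with hX1
  have hX1K : X1 ≤ MulAction.stabilizer G a ⊓ MulAction.stabilizer G b := sup_le (fun x hx => by
    obtain ⟨h1, h2⟩ := fix_of_odd_mem_pairStab (CfsgLib.Bender.coreOf_le _ hx)
      (hOodd.of_dvd_nat (Subgroup.orderOf_dvd_natCard O hx))
    exact ⟨h1, h2⟩) hP.1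
  have hgX1 : g ∈ normalizer (X1 : Set G) := by
    refine CfsgLib.ProdFusion.mem_of_forall_conj_mem fun x hx => ?_
    obtain ⟨o, ho, k, hk, rfl⟩ := CfsgLib.Coprime.mem_sup_exists hPO hx
    have h1 : g * o * g⁻¹ ∈ X1 :=
      mem_sup_left ((mem_normalizer_iff.1 (CfsgLib.Bender.le_normalizer_coreOf _ hgS) o).1 ho)
    have h2 : g * k * g⁻¹ ∈ X1 := by
      have hc : g * k * g⁻¹ * k⁻¹ ∈ O :=
        ⟨_, h.commutator_swap_mem_core hab hg hga ⟨k, hPS hk⟩, rfl⟩
      have := mul_mem (mem_sup_left (T := P) hc) (mem_sup_right (S := O) hk)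
      simpa [mul_assoc] using this
    rw [show g * (o * k) * g⁻¹ = g * o * g⁻¹ * (g * k * g⁻¹) by group]
    exact mul_mem h1 h2
  have hX1odd : Odd (Nat.card X1) := by
    refine (hOodd.mul (CfsgLib.Bender.odd_card_of_isPGroup hr hP.isPGroup)).of_dvd_nat ?_
    rw [hX1, sup_comm, mul_comm]
    exact CfsgLib.Coprime.card_sup_dvd_of_le_normalizer hPO
  have hP1 : IsSylowIn r P X1 := ⟨le_sup_right, le_antisymm
    (CfsgLib.Bender.isPGroup_card_le hP.isPGroup le_sup_right)
    (by rw [hP.2]; exact Nat.pow_le_pow_right (Fact.out (p := Nat.Prime r)).pos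
          (((Nat.factorization_le_iff_dvd Nat.card_pos.ne' Nat.card_pos.ne').2 (card_dvd_of_le hX1K)) r))⟩
  obtain ⟨Q, hQ, hgQ⟩ := CfsgLib.Coprime.exists_invariant_sylow (zpowers_le.2 hgX1)
    (by rw [Nat.card_zpowers, hgo]; exact Nat.coprime_two_left.2 hX1odd)
    (Or.inl (CfsgLib.Coprime.isSolvable_of_isMulCommutative inferInstance)) r
  obtain ⟨k, hk, rfl⟩ := hQ.exists_conj hP1
  have hka : k⁻¹ • a = a := MulAction.mem_stabilizer_iff.1 (inv_mem (hX1K hk).1)
  have hkb : k • b = b := MulAction.mem_stabilizer_iff.1 (hX1K hk).2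
  exact ⟨k * g * k⁻¹, hg.trans (isConj_iff.2 ⟨k, rfl⟩), by rw [mul_smul, mul_smul, hka, hga, hkb],
    CfsgLib.Bender.conj_mem_normalizer_of_mem (hgQ (mem_zpowers g))⟩

/-- Two commuting conjugates of `z` normalizing an odd group fix a point fixed by it. -/
theorem fix_of_pair_normalizing {P : Subgroup G} (hP : Odd (Nat.card P)) {t s : G} (ht : IsConj z t)
    (hs : IsConj z s) (hne : t ≠ s) (hc : Commute t s) (htP : t ∈ normalizer (P : Set G))
    (hsP : s ∈ normalizer (P : Set G)) {c : G ⧸ M} (htc : t • c = c) : ∀ r ∈ P, r • c = c := by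
  have hto := h.orderOf_conj ht
  have hso := h.orderOf_conj hs
  set A := closure ({t, s} : Set G) with hA
  have hAK := CfsgLib.Invol.isKleinFour_closure_pair hto hso hne hc
  haveI := hAK
  haveI : IsMulCommutative A := ⟨⟨fun a b => mul_comm_of_exponent_two IsKleinFour.exponent_two a b⟩⟩
  have hAN : A ≤ normalizer (P : Set G) := (closure_le _).2 (by
    rintro x (rfl | rfl)
    exacts [htP, hsP])
  have hcop : (Nat.card A).Coprime (Nat.card P) := by
    rw [IsKleinFour.card_four]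
    exact (Nat.coprime_two_left.2 hP).pow_left 2
  have hle : P ≤ MulAction.stabilizer G c := by
    refine CfsgLib.Coprime.le_of_centralizers_le IsKleinFour.not_isCyclic hAN hcop fun x hx hx1 => ?_
    rintro r ⟨-, hr⟩
    have hrx : Commute r x := mem_centralizer_singleton_iff.1 hr
    have hmem : x = t ∨ x = s ∨ x = t * s := by
      have htt := invol_mul_self hto
      have hss := invol_mul_self hso
      have h1 : s * t = t * s := hc.eq.symm
      have key : ∀ y ∈ closure ({t, s} : Set G), y = 1 ∨ y = t ∨ y = s ∨ y = t * s := by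
        intro y hy
        induction hy using closure_induction with
        | mem y hy =>
          rcases hy with e | e
          · exact Or.inr (Or.inl e)
          · exact Or.inr (Or.inr (Or.inl e))
        | one => exact Or.inl rfl
        | mul y w _ _ hy hw =>
          have hts : t * (t * s) = s := by rw [← mul_assoc, htt, one_mul]
          have hst : s * (t * s) = t := by rw [← mul_assoc, h1, mul_assoc, hss, mul_one]
          have htst : t * s * t = s := by rw [mul_assoc, h1, hts]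
          have htss : t * s * s = t := by rw [mul_assoc, hss, mul_one]
          have htsts : t * s * (t * s) = 1 := by rw [← mul_assoc, htst, hss]
          rcases hy with e | e | e | e <;> rcases hw with e' | e' | e' | e' <;> rw [e, e'] <;>
            simp [htt, hss, h1, hts, hst, htst, htss, htsts]
        | inv y _ hy =>
          rcases hy with e | e | e | e <;> rw [e] <;>
            simp [mul_inv_rev, invol_inv hto, invol_inv hso, h1]
      rcases key x hx with e | e
      · exact absurd e hx1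
      · exact e
    rcases hmem with e | e | e <;> rw [e] at hrx
    · exact MulAction.mem_stabilizer_iff.2 (h.smul_of_commute ht hrx htc)
    · exact MulAction.mem_stabilizer_iff.2 (h.smul_of_commute hs hrx (h.smul_of_commute ht hc.symm htc))
    · exact MulAction.mem_stabilizer_iff.2 (h.smul_of_commute_mul ht hs hc hne hrx htc)
  exact fun r hr => MulAction.mem_stabilizer_iff.1 (hle hr)

end Crit

namespace Setup

variable (h : Setup M z)
include h

/-- A non-trivial subgroup fixing a point is not normal. -/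
theorem normalizer_ne_top {R : Subgroup G} {a : G ⧸ M} (hRa : ∀ r ∈ R, r • a = a) (hR : R ≠ ⊥) :
    normalizer (R : Set G) ≠ ⊤ := by
  intro e
  refine hR (le_bot_iff.1 fun r hr => ?_)
  rw [← h.core]
  refine mem_core_of_forall_smul fun b => ?_
  obtain ⟨g, rfl⟩ := MulAction.exists_smul_eq G a b
  have h1 := hRa _ ((mem_normalizer_iff''.1 (e ▸ mem_top g : g ∈ normalizer (R : Set G)) r).1 hr)
  rw [mul_smul, mul_smul, inv_smul_eq_iff] at h1
  exact h1

/-- **Stage 1.** A normal `p`-subgroup of `G_a` moving every other point is semiregular off `a`. -/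
theorem semiregular (hpair : ∃ d e : G, IsConj z d ∧ IsConj z e ∧ Commute d e ∧ d ≠ e)
    {p : ℕ} [hp : Fact p.Prime] (hp2 : p ≠ 2) {a : G ⧸ M} {A : Subgroup G} (hAp : IsPGroup p A)
    (hAa : ∀ x ∈ A, x • a = a) (hAn : ∀ g : G, g • a = a → g ∈ normalizer (A : Set G))
    (hmove : ∀ c : G ⧸ M, c ≠ a → ∃ y ∈ A, y • c ≠ c) :
    ∀ w ∈ A, ∀ c : G ⧸ M, c ≠ a → w • c = c → w = 1 := by
  classical
  by_contra hcon
  push Not at hcon
  obtain ⟨w₀, hw₀, c₀, hc₀, hw₀c, hw₀1⟩ := hcon
  set S : (G ⧸ M) → Subgroup G := fun c => MulAction.stabilizer G a ⊓ MulAction.stabilizer G c with hSdef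
  -- a pair with the largest Sylow subgroup among those meeting `A`
  obtain ⟨b, ⟨hba, hQne⟩, hmax⟩ := Set.exists_max_image
    {c : G ⧸ M | c ≠ a ∧ A ⊓ MulAction.stabilizer G c ≠ ⊥}
    (fun c => (Nat.card (S c)).factorization p) (Set.toFinite _)
    ⟨c₀, hc₀, fun e => hw₀1 (mem_bot.1 (e ▸ (⟨hw₀, hw₀c⟩ : w₀ ∈ A ⊓ MulAction.stabilizer G c₀)))⟩
  obtain ⟨R, hR, -⟩ := CfsgLib.Bender.exists_sylowIn_ge (r := p) (K := S b) (P := ⊥)
    (IsPGroup.of_bot) bot_le
  have hRa : ∀ r ∈ R, r • a = a := fun r hr => MulAction.mem_stabilizer_iff.1 (hR.1 hr).1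
  have hRodd : Odd (Nat.card R) := CfsgLib.Bender.odd_card_of_isPGroup hp2 hR.isPGroup
  have hRA : R ≤ normalizer (A : Set G) := fun r hr => hAn r (hRa r hr)
  set Q := A ⊓ MulAction.stabilizer G b with hQ
  have hsylfacts : ∀ c : G ⧸ M, c ≠ a → IsSylowIn p R (S c) →
      A ⊓ MulAction.stabilizer G c ≤ R ∧ ∃ y ∈ A, y ∈ normalizer (R : Set G) ∧ y • c ≠ c := by
    intro c hca hRc
    have hQ' : A ⊓ MulAction.stabilizer G c ≤ R := by
      have hn : R ≤ normalizer ((A ⊓ MulAction.stabilizer G c : Subgroup G) : Set G) := fun r hr =>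
        mem_normalizer_inf' (hRA hr) (le_normalizer (hRc.1 hr).2)
      have h1 := hR.isPGroup.to_sup_of_normal_right' (hAp.to_le inf_le_left) hn
      exact sup_eq_left.1 (CfsgLib.Bender.sylowIn_eq_of_le hRc h1
        (sup_le hRc.1 (le_inf (inf_le_left.trans fun x hx => MulAction.mem_stabilizer_iff.2 (hAa x hx))
          inf_le_right)) le_sup_left).symm
    refine ⟨hQ', ?_⟩
    obtain ⟨y₀, hy₀, hy₀c⟩ := hmove c hca
    have hnle : ¬ R ⊔ A ≤ R := fun hle =>
      hy₀c (MulAction.mem_stabilizer_iff.1 (hRc.1 (hle (mem_sup_right hy₀))).2)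
    obtain ⟨x, hx, hxN, hxR⟩ := CfsgLib.Invol.exists_mem_normalizer_notMem
      (hR.isPGroup.to_sup_of_normal_right' hAp hRA) le_sup_left hnle
    rw [sup_comm] at hx
    obtain ⟨y, hy, r, hr, rfl⟩ := CfsgLib.Coprime.mem_sup_exists hRA hx
    have hyN : y ∈ normalizer (R : Set G) := by
      have := mul_mem hxN (inv_mem (le_normalizer hr : r ∈ normalizer (R : Set G)))
      rwa [mul_inv_cancel_right] at this
    exact ⟨y, hy, hyN, fun e => hxR (mul_mem (hQ' ⟨hy, MulAction.mem_stabilizer_iff.2 e⟩) hr)⟩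
  obtain ⟨hQR, y, hy, hyN, hyb⟩ := hsylfacts b hba hR
  set L' := normalizer (R : Set G) with hL'
  have hRne : R ≠ ⊥ := fun e => hQne (le_bot_iff.1 (hQR.trans e.le))
  -- the fixed points of `R` other than `a` are exchanged with `a`
  have hswap : ∀ c : G ⧸ M, (∀ r ∈ R, r • c = c) → c ≠ a →
      ∃ v ∈ L', IsConj z v ∧ v • a = c ∧ IsSylowIn p R (S c) := by
    intro c hc hca
    have hRS : R ≤ S c := fun r hr => ⟨(hR.1 hr).1, MulAction.mem_stabilizer_iff.2 (hc r hr)⟩
    have hQc : A ⊓ MulAction.stabilizer G c ≠ ⊥ := fun e => hQne (le_bot_iff.1 ((le_inf inf_le_left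
      fun x hx => MulAction.mem_stabilizer_iff.2 (hc x (hQR hx))).trans e.le))
    have hRc : IsSylowIn p R (S c) := ⟨hRS, le_antisymm (CfsgLib.Bender.isPGroup_card_le hR.isPGroup hRS)
      (by rw [hR.2]; exact Nat.pow_le_pow_right hp.out.pos (hmax c ⟨hca, hQc⟩))⟩
    obtain ⟨v, hv, hva, hvR⟩ := h.crit.exists_swap_normalizing hp2 hca.symm hRc
    exact ⟨v, hvR, hv, hva, hRc⟩
  obtain ⟨u, huL, hu, hua, -⟩ := hswap b (fun r hr => MulAction.mem_stabilizer_iff.1 (hR.1 hr).2) hba
  have huo := h.crit.orderOf_conj hu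
  have hub : u • b = a := by rw [← hua, smul_smul, invol_mul_self huo, one_smul]
  have hL'ne : L' ≠ ⊤ := h.normalizer_ne_top hRa hRne
  -- `L'` has no commuting pair
  have hlone : ∀ t ∈ L', ∀ s ∈ L', IsConj z t → IsConj z s → Commute t s → t = s := by
    intro t ht s hs htz hsz hts
    by_contra hne
    obtain ⟨c, htc⟩ := h.crit.fix_exists htz
    have hRc := h.crit.fix_of_pair_normalizing hRodd htz hsz hne hts ht hs htc
    obtain ⟨l, hl, hlc⟩ : ∃ l ∈ L', l • c = a := by
      rcases eq_or_ne c a with rfl | hca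
      · exact ⟨1, one_mem _, one_smul _ _⟩
      obtain ⟨v, hvL, hv, hva, -⟩ := hswap c hRc hca
      exact ⟨v, hvL, by rw [← hva, smul_smul, invol_mul_self (h.crit.orderOf_conj hv), one_smul]⟩
    have key := h.fix_orbit hL'ne (htz.trans (isConj_iff.2 ⟨l, rfl⟩)) (hsz.trans (isConj_iff.2 ⟨l, rfl⟩))
      (mul_mem (mul_mem hl ht) (inv_mem hl)) (mul_mem (mul_mem hl hs) (inv_mem hl)) (a := a)
      (by rw [← hlc, smul_smul, inv_mul_cancel_right, mul_smul, htc])
      (hts.map (MulAut.conj l).toMonoidHom) (fun e => hne (mul_left_cancel (mul_right_cancel e)))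
      ⟨u, huL, by rw [hua]; exact hba⟩ (W := A ⊓ L') inf_le_right (fun x hx => hAa x hx.1)
      (CfsgLib.Bender.odd_card_of_isPGroup hp2 (hAp.to_le inf_le_left))
      (fun x hx hxa => mem_normalizer_inf' (hAn x hxa) (le_normalizer hx)) huL (w := y) ⟨hy, hyN⟩
    rw [hua] at key
    exact hyb key
  -- the `p`-subgroup normalized by the two point stabilizer and the swap
  set Y := Q ⊔ Q.map (MulAut.conj u).toMonoidHom with hY
  have hconjmap : ∀ g : G, g ∈ normalizer (Q : Set G) → Q.map (MulAut.conj g).toMonoidHom = Q :=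
    fun g hg => CfsgLib.Coprime.conjBy_eq_self_iff.2 hg
  have hKQ : S b ≤ normalizer (Q : Set G) := fun k hk =>
    mem_normalizer_inf' (hAn k (MulAction.mem_stabilizer_iff.1 hk.1)) (le_normalizer hk.2)
  have huu : u * u = 1 := invol_mul_self huo
  have hKu : ∀ k ∈ S b, u * k * u⁻¹ ∈ S b := by
    intro k hk
    have h1 : k • a = a := MulAction.mem_stabilizer_iff.1 hk.1
    have h2 : k • b = b := MulAction.mem_stabilizer_iff.1 hk.2
    refine ⟨MulAction.mem_stabilizer_iff.2 ?_, MulAction.mem_stabilizer_iff.2 ?_⟩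
    · rw [mul_smul, mul_smul, inv_smul_eq_iff.2 hub.symm, h2, hub]
    · rw [mul_smul, mul_smul, inv_smul_eq_iff.2 hua.symm, h1, hua]
  have hmemY : ∀ g : G, (∀ q ∈ Q, g * q * g⁻¹ ∈ Y) → (∀ q ∈ Q, g * (u * q * u⁻¹) * g⁻¹ ∈ Y) →
      g ∈ normalizer (Y : Set G) := by
    intro g h1 h2
    refine CfsgLib.ProdFusion.mem_of_forall_conj_mem fun x hx => ?_
    have hle : Y ≤ Y.comap (MulAut.conj g).toMonoidHom := sup_le (fun q hq => h1 q hq) (by
      rintro _ ⟨q, hq, rfl⟩; exact h2 q hq)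
    exact hle hx
  have hDY : S b ≤ normalizer (Y : Set G) := fun k hk => by
    refine hmemY k (fun q hq => mem_sup_left ((mem_normalizer_iff.1 (hKQ hk) q).1 hq)) fun q hq => ?_
    refine mem_sup_right ⟨_, (mem_normalizer_iff.1 (hKQ (hKu k hk)) q).1 hq, ?_⟩
    simp only [MulEquiv.coe_toMonoidHom, MulAut.conj_apply]
    calc u * (u * k * u⁻¹ * q * (u * k * u⁻¹)⁻¹) * u⁻¹ = (u * u) * k * (u⁻¹ * q * u) * k⁻¹ * (u * u)⁻¹ := by
          group
      _ = k * (u * q * u⁻¹) * k⁻¹ := by rw [huu, invol_inv huo]; group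
  have huY : u ∈ normalizer (Y : Set G) := by
    refine hmemY u (fun q hq => mem_sup_right ⟨q, hq, rfl⟩) fun q hq => mem_sup_left ?_
    rwa [show u * (u * q * u⁻¹) * u⁻¹ = (u * u) * q * (u * u)⁻¹ by group, huu, one_mul, inv_one, mul_one]
  have hYR : Y ≤ R := by
    refine sup_le hQR ?_
    rintro _ ⟨q, hq, rfl⟩
    exact (mem_normalizer_iff.1 huL q).1 (hQR hq)
  have hPY : A ⊓ L' ≤ normalizer (Y : Set G) := fun x hx =>
    CfsgLib.ProdFusion.mem_of_forall_conj_mem fun q hq => by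
      have hqR := hYR hq
      have h1 : x * q * x⁻¹ * q⁻¹ ∈ R := mul_mem ((mem_normalizer_iff.1 hx.2 q).1 hqR) (inv_mem hqR)
      have h2 : x * q * x⁻¹ * q⁻¹ ∈ A := by
        rw [show x * q * x⁻¹ * q⁻¹ = x * (q * x⁻¹ * q⁻¹) by group]
        exact mul_mem hx.1 ((mem_normalizer_iff.1 (hRA hqR) _).1 (inv_mem hx.1))
      have h3 : x * q * x⁻¹ * q⁻¹ ∈ Y := mem_sup_left ⟨h2, (hR.1 h1).2⟩
      simpa [mul_assoc] using mul_mem h3 hq
  -- a swap fixing the point of a conjugate
  set M1 := normalizer (Y : Set G) ⊓ L' with hM1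
  have huM : u ∈ M1 := ⟨huY, huL⟩
  set O1 := CfsgLib.Bender.coreOf M1 with hO1
  have hiso : Cfsg.IsIsolatedInvolution (⟨u, huM⟩ : M1) := by
    refine ⟨by rw [orderOf_mk]; exact huo, fun n hn => Subtype.ext ?_⟩
    exact hlone _ (mul_mem (mul_mem n.2.2 huL) (inv_mem n.2.2)) u huL (hu.trans (isConj_iff.2 ⟨_, rfl⟩)) hu
      (congrArg Subtype.val hn.eq.symm)
  set T := R ⊔ (A ⊓ L') with hT
  have hTp : IsPGroup p T := hR.isPGroup.to_sup_of_normal_right' (hAp.to_le inf_le_left) fun r hr =>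
    mem_normalizer_inf' (hRA hr) (le_normalizer (le_normalizer hr : r ∈ L'))
  have hTM : T ≤ M1 := sup_le (le_inf (hR.1.trans hDY) le_normalizer) (le_inf hPY inf_le_right)
  obtain ⟨R0, hR0, hTR0⟩ := CfsgLib.Bender.exists_sylowIn_ge hTp hTM
  set K0 := O1 ⊔ R0 with hK0
  have hK0M : K0 ≤ M1 := sup_le (CfsgLib.Bender.coreOf_le M1) hR0.1
  have hK0odd : Odd (Nat.card K0) :=
    ((CfsgLib.Bender.odd_coreOf M1).mul (CfsgLib.Bender.odd_card_of_isPGroup hp2 hR0.isPGroup)).of_dvd_nat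
      (by
        rw [hK0, sup_comm, mul_comm]
        exact CfsgLib.Coprime.card_sup_dvd_of_le_normalizer (hR0.1.trans (CfsgLib.Bender.le_normalizer_coreOf M1)))
  have huK0 : u ∈ normalizer (K0 : Set G) := by
    refine CfsgLib.ProdFusion.mem_of_forall_conj_mem fun x hx => ?_
    have hc : u * x * u⁻¹ * x⁻¹ ∈ O1 := ⟨_, zstar hiso ⟨x, hK0M hx⟩, rfl⟩
    have := mul_mem (mem_sup_left (T := R0) hc) hx
    simpa [mul_assoc] using this
  obtain ⟨Sy, hSy, hRS, huS⟩ := CfsgLib.Coprime.le_invariant_sylow (zpowers_le.2 huK0)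
    (by rw [Nat.card_zpowers, huo]; exact Nat.coprime_two_left.2 hK0odd)
    (Or.inl (CfsgLib.Coprime.isSolvable_of_isMulCommutative inferInstance))
    ((le_sup_left.trans hTR0).trans le_sup_right : R ≤ K0) hR.isPGroup (zpowers_le.2 huL)
  replace huS := huS (mem_zpowers u)
  have hSM : IsSylowIn p Sy M1 := by
    refine ⟨hSy.1.trans hK0M, le_antisymm (CfsgLib.Bender.isPGroup_card_le hSy.isPGroup (hSy.1.trans hK0M)) ?_⟩
    rw [← hR0.2, hSy.2]
    exact CfsgLib.Bender.isPGroup_card_le hR0.isPGroup le_sup_right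
  obtain ⟨g, hg, hgS⟩ := CfsgLib.Bender.exists_conjBy_le hTp hTM hSM
  have hndvd : ¬ p ∣ Nat.card (G ⧸ M) := by
    intro hd
    have hset : MulAction.fixedPoints A (G ⧸ M) = {a} := by
      ext c
      refine ⟨fun hc => by_contra fun hca => ?_, fun e x => ?_⟩
      · obtain ⟨y', hy', hy'c⟩ := hmove c hca
        exact hy'c (hc ⟨y', hy'⟩)
      · rw [Set.mem_singleton_iff.1 e]; exact hAa x x.2
    have h1 := (hAp.card_modEq_card_fixedPoints (G ⧸ M)).symm.trans (Nat.modEq_zero_iff_dvd.2 hd)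
    rw [hset, Nat.card_coe_set_eq, Set.ncard_singleton, Nat.modEq_zero_iff_dvd] at h1
    exact hp.out.ne_one (Nat.dvd_one.1 h1)
  obtain ⟨d, hd⟩ := hSy.isPGroup.nonempty_fixed_point_of_prime_not_dvd_card (G ⧸ M) hndvd
  have hfixS : ∀ d : G ⧸ M, (∀ s ∈ Sy, s • d = d) → d = g • a := by
    intro d hd
    have hdT : ∀ x ∈ T, x • (g⁻¹ • d) = g⁻¹ • d := fun x hx => by
      have h1 : (g * x * g⁻¹) • d = d := hd _ (hgS ⟨x, hx, rfl⟩)
      rwa [mul_smul, mul_smul, ← eq_inv_smul_iff] at h1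
    by_contra hne'
    have hca : g⁻¹ • d ≠ a := fun e => hne' (by rw [← e, smul_inv_smul])
    obtain ⟨-, -, -, -, hRc⟩ := hswap _ (fun r hr => hdT r (mem_sup_left hr)) hca
    obtain ⟨-, x, hx, hxN, hxc⟩ := hsylfacts _ hca hRc
    exact hxc (hdT x (mem_sup_right ⟨hx, hxN⟩))
  have hdga : d = g • a := hfixS d fun s hs => hd ⟨s, hs⟩
  have huga : u • (g • a) = g • a := by
    refine hfixS _ fun s hs => ?_
    have h1 : (u⁻¹ * s * u) • d = d := hd ⟨_, (mem_normalizer_iff''.1 huS s).1 hs⟩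
    rw [mul_smul, mul_smul, inv_smul_eq_iff, hdga] at h1
    exact h1
  -- every conjugate at `a` normalizes `Y`
  set v₁ := g⁻¹ * u * g⁻¹⁻¹ with hv₁
  have hv₁a : v₁ • a = a := by rw [hv₁, inv_inv, mul_smul, mul_smul, huga, inv_smul_smul]
  have hv₁z : IsConj z v₁ := hu.trans (isConj_iff.2 ⟨g⁻¹, rfl⟩)
  have hv₁Y : v₁ ∈ normalizer (Y : Set G) :=
    mul_mem (mul_mem (inv_mem hg.1) huY) (inv_mem (inv_mem hg.1))
  have hallY : ∀ d : G, IsConj z d → d • a = a → d ∈ normalizer (Y : Set G) := by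
    intro d hd hda
    obtain ⟨k, hka, hkb, hk⟩ := h.crit.exists_pair_conj hba.symm hv₁z hv₁a hd hda
    have hkY : k ∈ normalizer (Y : Set G) :=
      hDY ⟨MulAction.mem_stabilizer_iff.2 hka, MulAction.mem_stabilizer_iff.2 hkb⟩
    rw [← hk]; exact mul_mem (mul_mem hkY hv₁Y) (inv_mem hkY)
  obtain ⟨d₀, e₀, hd₀, he₀, hde₀, hne₀⟩ := hpair
  obtain ⟨c, hc⟩ := h.crit.fix_exists hd₀
  obtain ⟨l, rfl⟩ := MulAction.exists_smul_eq G a c
  set d₁ := l⁻¹ * d₀ * l⁻¹⁻¹ with hd₁
  set e₁ := l⁻¹ * e₀ * l⁻¹⁻¹ with he₁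
  have hd₁a : d₁ • a = a := by rw [hd₁, inv_inv, mul_smul, mul_smul, hc, inv_smul_smul]
  have hd₁z : IsConj z d₁ := hd₀.trans (isConj_iff.2 ⟨l⁻¹, rfl⟩)
  have he₁z : IsConj z e₁ := he₀.trans (isConj_iff.2 ⟨l⁻¹, rfl⟩)
  have hc₁ : Commute d₁ e₁ := hde₀.map (MulAut.conj l⁻¹).toMonoidHom
  have he₁a : e₁ • a = a := h.crit.smul_of_commute hd₁z hc₁.symm hd₁a
  have hYne : Y ≠ ⊥ := fun e => hQne (le_bot_iff.1 (le_sup_left.trans e.le))
  have key := h.fix_orbit (h.normalizer_ne_top (fun r hr => hRa r (hYR hr)) hYne) hd₁z he₁z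
    (hallY _ hd₁z hd₁a) (hallY _ he₁z he₁a) hd₁a hc₁
    (fun e => hne₀ (mul_left_cancel (mul_right_cancel e)))
    ⟨u, huY, by rw [hua]; exact hba⟩ (W := A ⊓ normalizer (Y : Set G)) inf_le_right
    (fun x hx => hAa x hx.1) (CfsgLib.Bender.odd_card_of_isPGroup hp2 (hAp.to_le inf_le_left))
    (fun x hx hxa => mem_normalizer_inf' (hAn x hxa) (le_normalizer hx)) huY (w := y) ⟨hy, hPY ⟨hy, hyN⟩⟩
  rw [hua] at key
  exact hyb key

end Setup

end CfsgLib.SECrit
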